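import Cfsg.Prelude.Def_DegreeGraph
import Cfsg.Agent.Lib.CharTheory.Ito
import Cfsg.Agent.Lib.CharDegreesTheory.PrimeDegrees
import Cfsg.Agent.Lib.Correspondences.SL2EvenDegrees
import Cfsg.Agent.Lib.SmallOrders.Range.Orders

/-!
Tools to remove a prime from the character degree graph of a non-simple group of order below
6000: normal subgroups of prime order and normal abelian subgroups of coprime index.
-/

set_option autoImplicit false
set_option linter.style.haveILetI false

namespace CfsgLib.DegreeGraphSmall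

open Cfsg CfsgLib.CharTheory CfsgLib.CharDegreesTheory CfsgLib.CharDegreesTheory.SmallDegrees

universe u

/-- The orders of the non-abelian simple groups below 6000. -/
def orders : List ℕ := [60, 168, 360, 504, 660, 1092, 2448, 2520, 3420, 4080, 5616]

/-- A degree of a quotient is a degree of the group. -/
theorem charDegrees_quotient {G : Type u} [Group G] [Finite G] (N : Subgroup G) [N.Normal] :
    charDegrees (G ⧸ N) ⊆ charDegrees G := by
  rintro d ⟨θ, rfl⟩
  exact ⟨⟨_, isIrrCharacter_comp θ.2 (QuotientGroup.mk'_surjective N)⟩, rfl⟩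

/-- A degree of a normal subgroup divides a degree of the group. -/
theorem exists_dvd_charDegrees_of_normal {G : Type u} [Group G] [Finite G] (N : Subgroup G) [N.Normal]
    {d : ℕ} (hd : d ∈ charDegrees N) : ∃ D ∈ charDegrees G, d ∣ D := by
  classical
  haveI := Fintype.ofFinite N
  obtain ⟨θ, rfl⟩ := hd
  obtain ⟨χ, hχ⟩ := exists_over N θ
  exact ⟨_, ⟨χ, rfl⟩, ItoSolvable.dvd_of_constituent N θ χ hχ⟩

/-- A prime not dividing the index of a normal abelian subgroup divides no degree. -/
theorem not_mem_degreePrimes {G : Type u} [Group G] [Finite G] (A : Subgroup G) [A.Normal]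
    (hA : ∀ a ∈ A, ∀ b ∈ A, a * b = b * a) {r : ℕ} (hr : ¬ r ∣ A.index) :
    r ∉ degreePrimes G := by
  rintro ⟨-, d, ⟨χ, rfl⟩, hrd⟩
  obtain ⟨d', hd', hd''⟩ := exists_degree_dvd_index_of_abelian χ.2 A hA
  refine hr (hrd.trans (dvd_trans (dvd_of_eq ?_) hd''))
  unfold charDegree
  rw [hd', Complex.natCast_re, Nat.floor_natCast]

/-- A normal subgroup of order `r`, for a prime `r` dividing the order exactly once, removes the
vertex `r`. -/
theorem not_mem_degreePrimes_of_normal_prime {G : Type u} [Group G] [Finite G] {r : ℕ}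
    (hr : r.Prime) (h2 : ¬ r ^ 2 ∣ Nat.card G) (h : ∃ R : Subgroup G, R.Normal ∧ Nat.card R = r) :
    r ∉ degreePrimes G := by
  obtain ⟨R, hR, hcard⟩ := h
  haveI := Fact.mk hr
  haveI : IsCyclic R := isCyclic_of_prime_card hcard
  refine not_mem_degreePrimes R (fun a ha b hb =>
    congrArg Subtype.val (IsCyclic.commutative.is_comm.comm (⟨a, ha⟩ : R) ⟨b, hb⟩)) fun hd => h2 ?_
  rw [← R.card_mul_index, hcard, pow_two]
  exact Nat.mul_dvd_mul_left _ hd

/-- In a commutative group there is a normal subgroup of every prime order dividing the order. -/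
theorem exists_normal_prime_of_comm {G : Type u} [Group G] [Finite G] (hG : IsMulCommutative G)
    {r : ℕ} (hr : r.Prime) (hd : r ∣ Nat.card G) : ∃ R : Subgroup G, R.Normal ∧ Nat.card R = r := by
  haveI := Fact.mk hr
  obtain ⟨x, hx⟩ := exists_prime_orderOf_dvd_card' r hd
  refine ⟨Subgroup.zpowers x, ⟨fun n hn g => ?_⟩, by rw [Nat.card_zpowers, hx]⟩
  rwa [hG.is_comm.comm g n, mul_inv_cancel_right]

/-- A subgroup of prime order which is normal in a normal subgroup is normal, when the prime divides
the order of that subgroup only once. -/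
theorem exists_normal_prime_of_normal {G : Type u} [Group G] [Finite G] (N : Subgroup G) [N.Normal]
    {r : ℕ} (hr : r.Prime) (h2 : ¬ r ^ 2 ∣ Nat.card N)
    (h : ∃ R : Subgroup N, R.Normal ∧ Nat.card R = r) : ∃ R : Subgroup G, R.Normal ∧ Nat.card R = r := by
  obtain ⟨R, hR, hcard⟩ := h
  haveI := Fact.mk hr
  have hP : IsPGroup r R := IsPGroup.of_card (n := 1) (by rw [hcard, pow_one])
  have hni : ¬ r ∣ R.index := fun hd => h2 (by
    rw [← R.card_mul_index, hcard, pow_two]; exact Nat.mul_dvd_mul_left _ hd)
  haveI : R.Characteristic :=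
    Sylow.characteristic_of_normal (hP.toSylow hni) hR
  refine ⟨R.map N.subtype, inferInstance, ?_⟩
  rw [Subgroup.card_map_of_injective N.subtype_injective, hcard]

/-- An element of order `r` outside a normal subgroup of index `r` centralises a Sylow `q`-part,
when no power of `q` dividing the order is congruent to one modulo `r`. -/
theorem pow_dvd_centralizer {G : Type u} [Group G] [Finite G] (N : Subgroup G) [N.Normal]
    {r : ℕ} (hr : r.Prime) (hidx : N.index = r) (hrN : ¬ r ∣ Nat.card N)
    {x : G} (hx : orderOf x = r) {q : ℕ} (hq : q.Prime) (hqr : q ≠ r)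
    (hpp : ∀ j, 0 < j → q ^ j ∣ Nat.card G → q ^ j % r ≠ 1) {a : ℕ} (hqa : q ^ a ∣ Nat.card G) :
    q ^ a ∣ Nat.card (Subgroup.centralizer ({x} : Set G)) := by
  haveI := Fact.mk hr
  haveI := Fact.mk hq
  have hG : Nat.card G = Nat.card N * r := by rw [← hidx, N.card_mul_index]
  have h2 : ¬ r ^ 2 ∣ Nat.card G := by
    rw [hG, pow_two]
    exact fun h => hrN (Nat.dvd_of_mul_dvd_mul_right hr.pos h)
  obtain ⟨Q⟩ := (inferInstance : Nonempty (Sylow q G))
  have hQN : (Q : Subgroup G) ≤ N := by
    intro y hy
    rw [← QuotientGroup.eq_one_iff y, ← orderOf_eq_one_iff]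
    obtain ⟨k, hk⟩ := Q.isPGroup' ⟨y, hy⟩
    have hy' : orderOf (y : G ⧸ N) ∣ q ^ k := orderOf_dvd_of_pow_eq_one (by
      rw [← QuotientGroup.mk_pow, show y ^ q ^ k = 1 from congrArg Subtype.val hk,
        QuotientGroup.mk_one])
    refine Nat.dvd_one.1 ?_
    have hcop : Nat.Coprime (q ^ k) r := ((Nat.coprime_primes hq hr).2 hqr).pow_left _
    rw [← Nat.coprime_iff_gcd_eq_one.1 hcop]
    exact Nat.dvd_gcd hy' (hidx ▸ orderOf_dvd_natCard _)
  set M := Subgroup.normalizer ((Q : Subgroup G) : Set G) with hM
  have hrM : r ∣ Nat.card M := by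
    have hQ' := Sylow.normalizer_sup_eq_top (Q.subtype hQN)
    rw [Sylow.coe_subtype, Subgroup.map_subgroupOf_eq_of_le hQN] at hQ'
    have hle : N ⊔ M = ⊤ := by rw [sup_comm]; exact hQ'
    have htop : M.map (QuotientGroup.mk' N) = ⊤ := by
      have := congrArg (Subgroup.map (QuotientGroup.mk' N)) hle
      rwa [Subgroup.map_sup, (Subgroup.map_eq_bot_iff _).2 (by rw [QuotientGroup.ker_mk']), bot_sup_eq,
        Subgroup.map_top_of_surjective _ (QuotientGroup.mk'_surjective N)] at this
    have hd := Subgroup.card_map_dvd (H := M) (QuotientGroup.mk' N)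
    rw [htop, Subgroup.card_top, ← Subgroup.index_eq_card, hidx] at hd
    exact hd
  obtain ⟨y, hy⟩ := exists_prime_orderOf_dvd_card' (G := M) r hrM
  have hy' : orderOf ((y : G)) = r := by rw [Subgroup.orderOf_coe, hy]
  -- the element y centralises Q
  set Y := Subgroup.zpowers (y : G) with hY
  have hYM : Y ≤ M := Subgroup.zpowers_le.2 y.2
  have hYcard : Nat.card Y = r := by rw [hY, Nat.card_zpowers, hy']
  have hYp : IsPGroup r Y := IsPGroup.of_card (n := 1) (by rw [hYcard, pow_one])
  let _ : MulAction Y (Q : Subgroup G) :=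
    { smul := fun g z => ⟨g * z * (g : G)⁻¹, (Subgroup.mem_normalizer_iff.1 (hYM g.2) z).1 z.2⟩
      one_smul := fun z => Subtype.ext (by show (1 : G) * z * (1 : G)⁻¹ = z; group)
      mul_smul := fun g g' z => Subtype.ext (by
        show ((g : G) * g') * z * ((g : G) * g')⁻¹ = g * (g' * z * (g' : G)⁻¹) * (g : G)⁻¹
        group) }
  have hmod := hYp.card_modEq_card_fixedPoints (Q : Subgroup G)
  set F := (Q : Subgroup G) ⊓ Subgroup.centralizer ({(y : G)} : Set G) with hF
  have hFcard : Nat.card (MulAction.fixedPoints Y (Q : Subgroup G)) = Nat.card F := by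
    refine Nat.card_congr
      { toFun := fun z => ⟨(z.1 : G), z.1.2, Subgroup.mem_centralizer_singleton_iff.2 ?_⟩
        invFun := fun z => ⟨⟨(z : G), z.2.1⟩, fun g => ?_⟩
        left_inv := fun z => rfl
        right_inv := fun z => rfl }
    · have := congrArg Subtype.val (z.2 ⟨(y : G), Subgroup.mem_zpowers _⟩)
      change (y : G) * z.1 * (y : G)⁻¹ = z.1 at this
      have h := mul_inv_eq_iff_eq_mul.1 this
      exact h.symm
    · obtain ⟨k, hk⟩ := Subgroup.mem_zpowers_iff.1 g.2
      refine Subtype.ext ?_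
      show (g : G) * z * (g : G)⁻¹ = z
      have hc : Commute (z : G) (y : G) := Subgroup.mem_centralizer_singleton_iff.1 z.2.2
      rw [← hk, ((hc.zpow_right k).symm).eq, mul_inv_cancel_right]
  rw [hFcard] at hmod
  have hQc := Q.card_eq_multiplicity
  obtain ⟨b, hb, hFb⟩ := (Nat.dvd_prime_pow hq).1
    (hQc ▸ Subgroup.card_dvd_of_le (inf_le_left : F ≤ (Q : Subgroup G)))
  rw [hQc, hFb] at hmod
  rcases hb.eq_or_lt with heq | hlt
  · -- so the centraliser has full q-part
    have hFy : q ^ (Nat.card G).factorization q ∣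
        Nat.card (Subgroup.centralizer ({(y : G)} : Set G)) := by
      rw [← heq, ← hFb]
      exact Subgroup.card_dvd_of_le inf_le_right
    refine ((pow_dvd_pow q ((hq.pow_dvd_iff_le_factorization Nat.card_pos.ne').1 hqa)).trans
      hFy).trans (dvd_of_eq ?_)
    -- centralisers of elements of order r are conjugate
    obtain ⟨P⟩ := (inferInstance : Nonempty (Sylow r G))
    have hni : ∀ z : G, orderOf z = r → ¬ r ∣ (Subgroup.zpowers z).index := fun z hz hd => h2 (by
      rw [← (Subgroup.zpowers z).card_mul_index, Nat.card_zpowers, hz, pow_two]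
      exact Nat.mul_dvd_mul_left _ hd)
    have hp : ∀ z : G, orderOf z = r → IsPGroup r (Subgroup.zpowers z) := fun z hz =>
      IsPGroup.of_card (n := 1) (by rw [Nat.card_zpowers, hz, pow_one])
    obtain ⟨g, hg⟩ := MulAction.exists_smul_eq G ((hp _ hy').toSylow (hni _ hy'))
      ((hp _ hx).toSylow (hni _ hx))
    have hg' := congrArg (fun S : Sylow r G => (S : Subgroup G)) hg
    simp only [Sylow.coe_subgroup_smul, IsPGroup.toSylow_coe, MulAut.smul_def] at hg'
    have hc : ∀ z : G, Subgroup.centralizer ({z} : Set G) =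
        Subgroup.centralizer ((Subgroup.zpowers z : Subgroup G) : Set G) := fun z => by
      rw [Subgroup.zpowers_eq_closure, Subgroup.centralizer_closure]
    have hgy : Subgroup.zpowers (g * (y : G) * g⁻¹) = Subgroup.zpowers x := by
      rw [← hg', Subgroup.pointwise_smul_def]
      exact ((MulAut.conj g).toMonoidHom.map_zpowers (y : G)).symm
    rw [hc x, ← hgy, ← hc]
    refine Nat.card_congr (Equiv.subtypeEquiv (MulAut.conj g).toEquiv fun z => ?_)
    rw [Subgroup.mem_centralizer_singleton_iff, Subgroup.mem_centralizer_singleton_iff,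
      MulEquiv.toEquiv_eq_coe, MulEquiv.coe_toEquiv, MulAut.conj_apply]
    rw [show g * z * g⁻¹ * (g * (y : G) * g⁻¹) = g * (z * y) * g⁻¹ by group,
      show g * (y : G) * g⁻¹ * (g * z * g⁻¹) = g * (y * z) * g⁻¹ by group]
    exact ⟨fun h => by rw [h], fun h => mul_left_cancel (mul_right_cancel h)⟩
  · exfalso
    set a' := (Nat.card G).factorization q
    have hd : q ^ (a' - b) ∣ Nat.card G :=
      (pow_dvd_pow q (Nat.sub_le _ _)).trans (Nat.ordProj_dvd _ q)
    refine hpp (a' - b) (by omega) hd ?_
    have : q ^ b * q ^ (a' - b) ≡ q ^ b * 1 [MOD r] := by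
      rw [← pow_add, Nat.add_sub_cancel' hb, mul_one]
      exact hmod
    have h1 := Nat.ModEq.cancel_left_of_coprime
      (by rw [Nat.gcd_comm]; exact ((Nat.coprime_primes hq hr).2 hqr).pow_left _) this
    rw [Nat.ModEq] at h1
    rw [h1, Nat.mod_eq_of_lt hr.one_lt]

/-- A complement of prime order centralises a normal subgroup whose prime power divisors are not
congruent to one modulo that prime. -/
theorem exists_normal_prime_of_index {G : Type u} [Group G] [Finite G] (N : Subgroup G) [N.Normal]
    {r : ℕ} (hr : r.Prime) (hidx : N.index = r) (hrN : ¬ r ∣ Nat.card N)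
    (hpp : ∀ d, d ∣ Nat.card G → IsPrimePow d → d % r ≠ 1) :
    ∃ R : Subgroup G, R.Normal ∧ Nat.card R = r := by
  haveI := Fact.mk hr
  have hG : Nat.card G = Nat.card N * r := by rw [← hidx, N.card_mul_index]
  have h2 : ¬ r ^ 2 ∣ Nat.card G := by
    rw [hG, pow_two]
    exact fun h => hrN (Nat.dvd_of_mul_dvd_mul_right hr.pos h)
  obtain ⟨x, hx⟩ := exists_prime_orderOf_dvd_card' (G := G) r (hG ▸ dvd_mul_left _ _)
  suffices h : Nat.card G ∣ Nat.card (Subgroup.centralizer ({x} : Set G)) by
    refine ⟨Subgroup.zpowers x, ⟨fun n hn g => ?_⟩, by rw [Nat.card_zpowers, hx]⟩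
    obtain ⟨k, rfl⟩ := Subgroup.mem_zpowers_iff.1 hn
    have hg : g ∈ Subgroup.centralizer ({x} : Set G) := by
      rw [Subgroup.eq_top_of_card_eq _ ((Nat.dvd_antisymm (Subgroup.card_subgroup_dvd_card _) h))]
      exact Subgroup.mem_top g
    have hc : Commute g x := (Subgroup.mem_centralizer_singleton_iff.1 hg)
    have := (hc.zpow_right k).eq
    rw [this, mul_inv_cancel_right]
    exact hn
  refine (Nat.dvd_iff_prime_pow_dvd_dvd _ _).2 fun q a hq hqa => ?_
  haveI := Fact.mk hq
  rcases eq_or_ne q r with rfl | hqr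
  · rcases le_or_gt a 1 with ha | ha
    · refine (pow_dvd_pow q ha).trans ?_
      rw [pow_one, ← hx, ← Nat.card_zpowers]
      refine Subgroup.card_dvd_of_le ?_
      rw [Subgroup.zpowers_le]
      exact Subgroup.mem_centralizer_singleton_iff.2 rfl
    · exact absurd ((pow_dvd_pow q ha).trans hqa) h2
  exact pow_dvd_centralizer N hr hidx hrN hx hq hqr
    (fun j hj hjd => hpp _ hjd (hq.isPrimePow.pow hj.ne')) hqa

/-- A nonabelian simple group is not solvable. -/
theorem not_isSolvable_of_simple {G : Type u} [Group G] [IsSimpleGroup G]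
    (hG : ¬ IsMulCommutative G) : ¬ Group.IsSolvable G := fun _ =>
  hG (IsMulCommutative.of_comm (IsSimpleGroup.comm_iff_isSolvable.2 ‹_›))

/-- A nonabelian simple group below 6000 has one of the listed orders. -/
theorem card_mem_orders {G : Type u} [Group G] [Finite G] [IsSimpleGroup G]
    (hG : ¬ IsMulCommutative G) (h : Nat.card G < 6000) : Nat.card G ∈ orders :=
  SmallOrders.Range.card_simple_lt_6000 hG h

/-- Proper nontrivial normal subgroups have smaller order, and smaller quotients. -/
theorem exists_normal_lt {G : Type u} [Group G] [Finite G] [Nontrivial G] (h : ¬ IsSimpleGroup G) :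
    ∃ N : Subgroup G, N.Normal ∧ 1 < Nat.card N ∧ Nat.card N < Nat.card G := by
  obtain ⟨N, hN, h1, h2⟩ : ∃ N : Subgroup G, N.Normal ∧ N ≠ ⊥ ∧ N ≠ ⊤ := by
    by_contra hcon
    push Not at hcon
    exact h ⟨fun N hN => (em (N = ⊥)).imp_right fun h' => hcon N hN h'⟩
  haveI := (Subgroup.nontrivial_iff_ne_bot N).2 h1
  exact ⟨N, hN, Finite.one_lt_card, lt_of_le_of_ne (Subgroup.card_le_card_group N) fun e =>
    h2 (Subgroup.eq_top_of_card_eq N e)⟩

/-- The order of a quotient. -/
theorem card_quotient_mul {G : Type u} [Group G] (N : Subgroup G) :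
    Nat.card (G ⧸ N) * Nat.card N = Nat.card G :=
  (Subgroup.card_eq_card_quotient_mul_card_subgroup N).symm

/-- Solvability of a non-simple group from its order. -/
theorem isSolvable_of_orders {G : Type u} [Group G] [Finite G] (h6 : Nat.card G < 6000)
    (hlist : ∀ m ∈ orders, m ∣ Nat.card G → m = Nat.card G)
    (hns : ¬ (IsSimpleGroup G ∧ ¬ IsMulCommutative G)) : Group.IsSolvable G := by
  induction hn : Nat.card G using Nat.strong_induction_on generalizing G with
  | _ n ih =>
    subst hn
    by_cases hc : IsMulCommutative G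
    · letI : CommGroup G := { (inferInstance : Group G) with mul_comm := hc.is_comm.comm }
      infer_instance
    have : Nontrivial G := not_subsingleton_iff_nontrivial.1 fun h =>
      hc (IsMulCommutative.of_comm fun a b => Subsingleton.elim _ _)
    obtain ⟨N, hN, h1, h2⟩ := exists_normal_lt fun h => hns ⟨h, hc⟩
    have hq := card_quotient_mul N
    have hq' : Nat.card (G ⧸ N) < Nat.card G := by
      rw [← hq]; exact lt_mul_of_one_lt_right Nat.card_pos h1
    have key : ∀ (X : Type u) [Group X] [Finite X], Nat.card X ∣ Nat.card G →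
        Nat.card X < Nat.card G → Group.IsSolvable X := fun X _ _ hd hlt => by
      have hno : ∀ m ∈ orders, ¬ m ∣ Nat.card X := fun m hm hmd => by
        have := hlist m hm (hmd.trans hd)
        have := Nat.le_of_dvd Nat.card_pos hmd
        omega
      refine ih _ hlt (by omega) (fun m hm hmd => absurd hmd (hno m hm)) (fun ⟨hs, hnc⟩ => ?_) rfl
      exact hno _ (card_mem_orders hnc (by omega)) dvd_rfl
    haveI := key N (Subgroup.card_subgroup_dvd_card N) h2
    haveI := key (G ⧸ N) (Subgroup.card_quotient_dvd_card N) hq'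
    exact Group.isSolvable_of_ker_le_range N.subtype (QuotientGroup.mk' N)
      (by rw [QuotientGroup.ker_mk', Subgroup.range_subtype])

/-- A prime dividing the order once gives a normal subgroup of that order, when no prime power
divisor is congruent to one modulo it and no simple section has order divisible by it. -/
theorem exists_normal_prime {G : Type u} [Group G] [Finite G] {r : ℕ} (hr : r.Prime)
    (h1 : r ∣ Nat.card G) (h2 : ¬ r ^ 2 ∣ Nat.card G) (h6 : Nat.card G < 6000)
    (hpp : ∀ d, d ∣ Nat.card G → IsPrimePow d → d % r ≠ 1)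
    (hns : ¬ (IsSimpleGroup G ∧ ¬ IsMulCommutative G))
    (hsec : Group.IsSolvable G ∨ ∀ m ∈ orders, r ∣ m → m ∣ Nat.card G → m = Nat.card G) :
    ∃ R : Subgroup G, R.Normal ∧ Nat.card R = r := by
  induction hn : Nat.card G using Nat.strong_induction_on generalizing G with
  | _ n ih =>
    subst hn
    by_cases hc : IsMulCommutative G
    · exact exists_normal_prime_of_comm hc hr h1
    have : Nontrivial G := not_subsingleton_iff_nontrivial.1 fun h =>
      hc (IsMulCommutative.of_comm fun a b => Subsingleton.elim _ _)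
    obtain ⟨N, hN, hN1, hN2⟩ := exists_normal_lt fun h => hns ⟨h, hc⟩
    have key : ∀ (X : Type u) [Group X] [Finite X], Nat.card X ∣ Nat.card G →
        Nat.card X < Nat.card G → r ∣ Nat.card X →
        (Group.IsSolvable G → Group.IsSolvable X) →
        ∃ R : Subgroup X, R.Normal ∧ Nat.card R = r := fun X _ _ hd hlt hrX hsolv => by
      refine ih _ hlt hrX (fun h => h2 (h.trans hd)) (by omega)
        (fun d hdX => hpp d (hdX.trans hd)) ?_ ?_ rfl
      · rintro ⟨hs, hnc⟩
        rcases hsec with h | h
        · exact not_isSolvable_of_simple hnc (hsolv h)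
        · have := h _ (card_mem_orders hnc (by omega)) hrX hd
          omega
      · exact hsec.imp hsolv fun h m hm hrm hmd => by
          have := h m hm hrm (hmd.trans hd)
          have := Nat.le_of_dvd Nat.card_pos hmd
          omega
    have hq := card_quotient_mul N
    have keyN : ∀ L : Subgroup G, L.Normal → Nat.card L < Nat.card G → r ∣ Nat.card L →
        ∃ R : Subgroup G, R.Normal ∧ Nat.card R = r := fun L hL hlt hrL =>
      haveI := hL
      exists_normal_prime_of_normal L hr (fun h => h2 (h.trans (Subgroup.card_subgroup_dvd_card L)))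
        (key L (Subgroup.card_subgroup_dvd_card L) hlt hrL fun _ => inferInstance)
    by_cases hrN : r ∣ Nat.card N
    · exact keyN N hN hN2 hrN
    have hrQ : r ∣ Nat.card (G ⧸ N) := ((Nat.Prime.dvd_mul hr).1 (hq ▸ h1)).resolve_right hrN
    obtain ⟨R, hR, hRc⟩ := key (G ⧸ N) (Subgroup.card_quotient_dvd_card N)
      (by rw [← hq]; exact lt_mul_of_one_lt_right Nat.card_pos hN1) hrQ fun _ => inferInstance
    set K := R.comap (QuotientGroup.mk' N) with hK
    have hKidx : K.index = R.index :=
      R.index_comap_of_surjective (QuotientGroup.mk'_surjective N)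
    have hKc : Nat.card K = r * Nat.card N := by
      refine Nat.eq_of_mul_eq_mul_right (Nat.pos_of_ne_zero (Subgroup.index_ne_zero_of_finite (H := K))) ?_
      rw [K.card_mul_index, hKidx, ← hq, ← R.card_mul_index, hRc]
      ring
    haveI : K.Normal := Subgroup.Normal.comap hR _
    by_cases hKG : Nat.card K < Nat.card G
    · exact keyN K inferInstance hKG (hKc ▸ dvd_mul_right _ _)
    refine exists_normal_prime_of_index N hr ?_ hrN hpp
    have hKe : Nat.card K = Nat.card G :=
      le_antisymm (Subgroup.card_le_card_group K) (not_lt.1 hKG)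
    rw [Subgroup.index_eq_card]
    rw [hKc, ← hq] at hKe
    exact (Nat.eq_of_mul_eq_mul_right Nat.card_pos hKe).symm

/-- Lifting a normal subgroup of prime order from a quotient. -/
theorem exists_normal_prime_of_quotient {G : Type u} [Group G] [Finite G] (N : Subgroup G) [N.Normal]
    {r : ℕ} (hr : r.Prime) (hN : 1 < Nat.card N) (hrN : ¬ r ∣ Nat.card N) (h6 : Nat.card G < 6000)
    (hpp : ∀ d, d ∣ r * Nat.card N → IsPrimePow d → d % r ≠ 1)
    (hsec : Group.IsSolvable G ∨ ∀ m ∈ orders, r ∣ m → ¬ m ∣ r * Nat.card N)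
    (h : ∃ R : Subgroup (G ⧸ N), R.Normal ∧ Nat.card R = r) :
    ∃ R : Subgroup G, R.Normal ∧ Nat.card R = r := by
  obtain ⟨R, hR, hRc⟩ := h
  set K := R.comap (QuotientGroup.mk' N) with hK
  have hKc : Nat.card K = r * Nat.card N := by
    refine Nat.eq_of_mul_eq_mul_right (Nat.pos_of_ne_zero (Subgroup.index_ne_zero_of_finite (H := K))) ?_
    rw [K.card_mul_index, R.index_comap_of_surjective (QuotientGroup.mk'_surjective N),
      ← card_quotient_mul N, ← R.card_mul_index, hRc]
    ring
  haveI : K.Normal := Subgroup.Normal.comap hR _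
  have h2 : ¬ r ^ 2 ∣ Nat.card K := by
    rw [hKc, pow_two]
    exact fun h => hrN (Nat.dvd_of_mul_dvd_mul_left hr.pos h)
  refine exists_normal_prime_of_normal K hr h2 (exists_normal_prime hr (hKc ▸ dvd_mul_right _ _) h2
    (lt_of_le_of_lt (Subgroup.card_le_card_group K) h6) (hKc ▸ hpp) ?_
    (hsec.imp (fun hs => @Group.isSolvable_of_isSolvable_injective _ _ _ _ K.subtype K.subtype_injective hs)
      fun h m hm hrm hmd => absurd (hKc ▸ hmd) (h m hm hrm)))
  rintro ⟨hs, -⟩
  have hNK : N ≤ K := fun x hx => by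
    rw [Subgroup.mem_comap, show QuotientGroup.mk' N x = 1 from (QuotientGroup.eq_one_iff x).2 hx]
    exact one_mem R
  rcases (inferInstance : (N.subgroupOf K).Normal).eq_bot_or_eq_top with h | h
  · have := congrArg (fun L : Subgroup K => Nat.card L) h
    simp only [Nat.card_congr (Subgroup.subgroupOfEquivOfLe hNK).toEquiv, Subgroup.card_bot] at this
    omega
  · have := congrArg (fun L : Subgroup K => Nat.card L) h
    simp only [Nat.card_congr (Subgroup.subgroupOfEquivOfLe hNK).toEquiv, Subgroup.card_top] at this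
    rw [hKc] at this
    exact absurd (Nat.eq_of_mul_eq_mul_right Nat.card_pos (this.symm.trans (one_mul _).symm))
      hr.one_lt.ne'

end CfsgLib.DegreeGraphSmall
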