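import Cfsg.Agent.Lib.DegreeGraphSmall.Basic
import Cfsg.Agent.Lib.SolvableStructure.MinimalNormal

/-!
Non-simple groups of the small simple orders: the orders with a prime divisor which splits off,
and the order 168.
-/

set_option autoImplicit false

namespace CfsgLib.DegreeGraphSmall

open Cfsg

universe u

/-- A prime divisor is not a vertex, for the orders with a self-splitting prime. -/
theorem not_mem_of_orders {G : Type u} [Group G] [Finite G] {n r : ℕ} (hn : Nat.card G = n)
    (hr : r.Prime) (h1 : r ∣ n) (h2 : ¬ r ^ 2 ∣ n) (h6 : n < 6000)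
    (hpp : ∀ d ∈ n.divisors, IsPrimePow d → d % r ≠ 1)
    (hlist : ∀ m ∈ orders, r ∣ m → m ∣ n → m = n) (hns : ¬ IsSimpleGroup G) :
    r ∉ degreePrimes G := by
  subst hn
  exact not_mem_degreePrimes_of_normal_prime hr h2 (exists_normal_prime hr h1 h2 h6
    (fun d hd => hpp d (Nat.mem_divisors.2 ⟨hd, Nat.card_pos.ne'⟩)) (fun h => hns h.1)
    (Or.inr hlist))

theorem nontrivial_of_card {G : Type u} [Group G] [Finite G] {n : ℕ} (hn : Nat.card G = n)
    (h : 1 < n) : Nontrivial G := Finite.one_lt_card_iff_nontrivial.1 (hn ▸ h)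

/-- A minimal normal subgroup of a solvable group. -/
theorem exists_abelian_normal {G : Type u} [Group G] [Finite G] [Group.IsSolvable G] [Nontrivial G] :
    ∃ M : Subgroup G, M.Normal ∧ IsPrimePow (Nat.card M) ∧ (∀ a ∈ M, ∀ b ∈ M, a * b = b * a) := by
  obtain ⟨M, -, hM, hM1, hmin⟩ := SolvableStructure.exists_minimal_normal (G := G)
    (N := ⊤) inferInstance (by exact top_ne_bot)
  haveI := hM
  obtain ⟨p, d, hp, hd, hcard, -, hcomm⟩ := SolvableStructure.minimal_normal_prime hM1 hmin
  haveI := hcomm
  exact ⟨M, hM, hcard ▸ hp.isPrimePow.pow hd.ne',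
    fun a ha b hb => SolvableStructure.commute_of_isMulCommutative ha hb⟩

/-- A non-simple group of order 168 lacks one of the primes 2, 3, 7. -/
theorem not_all_168 {G : Type u} [Group G] [Finite G] (hn : Nat.card G = 168)
    (hns : ¬ IsSimpleGroup G) :
    2 ∉ degreePrimes G ∨ 3 ∉ degreePrimes G ∨ 7 ∉ degreePrimes G := by
  haveI := nontrivial_of_card hn (by norm_num)
  haveI : Group.IsSolvable G := isSolvable_of_orders (by omega) (by rw [hn]; decide) fun h => hns h.1
  obtain ⟨M, hM, hpow, hcomm⟩ := exists_abelian_normal (G := G)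
  have hidx : M.index * Nat.card M = 168 := by rw [mul_comm, M.card_mul_index, hn]
  have hmem : Nat.card M ∈ [2, 4, 8, 3, 7] :=
    (by decide +kernel : ∀ d ∈ Nat.divisors 168, IsPrimePow d → d ∈ [2, 4, 8, 3, 7]) _
      (Nat.mem_divisors.2 ⟨hn ▸ Subgroup.card_subgroup_dvd_card M, by norm_num⟩) hpow
  simp only [List.mem_cons, List.not_mem_nil, or_false] at hmem
  rcases hmem with h | h | h | h | h <;> rw [h] at hidx
  rotate_left 2
  · exact Or.inl (not_mem_degreePrimes M hcomm (by omega))
  · exact Or.inr (Or.inl (not_mem_degreePrimes M hcomm (by omega)))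
  · exact Or.inr (Or.inr (not_mem_degreePrimes M hcomm (by omega)))
  all_goals
    refine Or.inr (Or.inr (not_mem_degreePrimes_of_normal_prime (by norm_num) (by rw [hn]; norm_num)
      (exists_normal_prime_of_quotient M (by norm_num) (by omega) (by omega) (by omega)
        ?_ (Or.inl inferInstance) ?_)))
    · intro d hd hpp
      rw [h] at hd
      revert hpp
      exact (by decide +kernel : ∀ e ∈ Nat.divisors 28, IsPrimePow e → e % 7 ≠ 1) d
        (Nat.mem_divisors.2 ⟨hd.trans (by norm_num), by norm_num⟩)
    · have hc : Nat.card (G ⧸ M) = M.index := M.index_eq_card.symm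
      refine exists_normal_prime (by norm_num) (by omega) (by omega) (by omega) ?_ ?_
        (Or.inl inferInstance)
      · intro d hd hpp
        revert hpp
        exact (by decide +kernel : ∀ e ∈ Nat.divisors 84, IsPrimePow e → e % 7 ≠ 1) d
          (Nat.mem_divisors.2 ⟨hd.trans (hc ▸ by
            rcases (by omega : M.index = 84 ∨ M.index = 42) with e | e <;> rw [e] <;> norm_num),
            by norm_num⟩)
      · rintro ⟨hs, hnc⟩
        exact not_isSolvable_of_simple hnc inferInstance

end CfsgLib.DegreeGraphSmall
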