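import Cfsg.Agent.Lib.DegreeGraphSmall.Sections
import Cfsg.Agent.Lib.SolvableStructure.MinimalNormal

/-!
An element of prime order acting on a normal subgroup of coprime order.
-/

set_option autoImplicit false
set_option linter.style.haveILetI false

namespace CfsgLib.DegreeGraphSmall

open scoped commutatorElement

universe u

/-- The subgroup generated by a normal subgroup and an element of prime order outside it. -/
theorem exists_extension {G : Type u} [Group G] [Finite G] (M : Subgroup G) [M.Normal] {r : ℕ}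
    (hr : r.Prime) (hrM : ¬ r ∣ Nat.card M) {x : G} (hx : orderOf x = r) :
    ∃ Y : Subgroup G, M ≤ Y ∧ x ∈ Y ∧ Nat.card Y = r * Nat.card M := by
  have hxM : (x : G ⧸ M) ≠ 1 := fun h => hrM
    (hx ▸ Subgroup.orderOf_dvd_natCard _ ((QuotientGroup.eq_one_iff x).1 h))
  have hxq : orderOf (x : G ⧸ M) = r := by
    rcases (Nat.dvd_prime hr).1 (hx ▸ orderOf_map_dvd (QuotientGroup.mk' M) x) with h | h
    · exact absurd (orderOf_eq_one_iff.1 h) hxM
    · exact h
  set R := Subgroup.zpowers (x : G ⧸ M)
  refine ⟨R.comap (QuotientGroup.mk' M), fun y hy => ?_, Subgroup.mem_comap.2 (Subgroup.mem_zpowers _), ?_⟩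
  · rw [Subgroup.mem_comap, show QuotientGroup.mk' M y = 1 from (QuotientGroup.eq_one_iff y).2 hy]
    exact one_mem R
  · refine Nat.eq_of_mul_eq_mul_right (Nat.pos_of_ne_zero
      (Subgroup.index_ne_zero_of_finite (H := R.comap (QuotientGroup.mk' M)))) ?_
    rw [Subgroup.card_mul_index, R.index_comap_of_surjective (QuotientGroup.mk'_surjective M),
      ← card_quotient_mul M, ← R.card_mul_index, show Nat.card R = r by rw [Nat.card_zpowers, hxq]]
    ring

/-- An element of order `r` centralises a normal subgroup of order prime to `r` whose prime power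
divisors, and those of `r` times it, are not congruent to one modulo `r`. -/
theorem commute_of_prime_outside {G : Type u} [Group G] [Finite G] (M : Subgroup G) [M.Normal]
    {r : ℕ} (hr : r.Prime) (hrM : ¬ r ∣ Nat.card M) {x : G} (hx : orderOf x = r)
    (hpp : ∀ d, d ∣ r * Nat.card M → IsPrimePow d → d % r ≠ 1) :
    ∀ m ∈ M, m * x = x * m := by
  haveI := Fact.mk hr
  obtain ⟨Y, hMY, hxY, hYc⟩ := exists_extension M hr hrM hx
  have hN : Nat.card (M.subgroupOf Y) = Nat.card M :=
    Nat.card_congr (Subgroup.subgroupOfEquivOfLe hMY).toEquiv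
  have hidx : (M.subgroupOf Y).index = r := by
    have := (M.subgroupOf Y).card_mul_index
    rw [hN, hYc, mul_comm r] at this
    exact Nat.eq_of_mul_eq_mul_left Nat.card_pos this
  obtain ⟨R, hR, hRc⟩ := exists_normal_prime_of_index (M.subgroupOf Y) hr hidx (by rwa [hN]) (hYc ▸ hpp)
  haveI := hR
  have hni : ¬ r ∣ R.index := fun hd => hrM (by
    have := Nat.mul_dvd_mul_left r hd
    rw [show r * R.index = Nat.card Y by rw [← R.card_mul_index, hRc], hYc] at this
    exact Nat.dvd_of_mul_dvd_mul_left hr.pos this)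
  have hxR : (⟨x, hxY⟩ : Y) ∈ R := by
    rw [← QuotientGroup.eq_one_iff, ← orderOf_eq_one_iff]
    have h1 : orderOf ((⟨x, hxY⟩ : Y) : Y ⧸ R) ∣ r := by
      have h := orderOf_map_dvd (QuotientGroup.mk' R) (⟨x, hxY⟩ : Y)
      rwa [Subgroup.orderOf_mk, hx] at h
    rcases (Nat.dvd_prime hr).1 h1 with h | h
    · exact h
    · exact absurd (h ▸ orderOf_dvd_natCard _) (by rw [← Subgroup.index_eq_card]; exact hni)
  have hdis : Disjoint (M.subgroupOf Y) R := by
    rw [disjoint_iff]
    refine Subgroup.inf_eq_bot_of_coprime ?_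
    rw [hN, hRc]
    exact (hr.coprime_iff_not_dvd.2 hrM).symm
  intro m hm
  exact congrArg Subtype.val
    (Subgroup.commute_of_normal_of_disjoint _ R inferInstance hR hdis (⟨m, hMY hm⟩ : Y) ⟨x, hxY⟩
      (Subgroup.mem_subgroupOf.2 hm) hxR)

/-- The centraliser of a nonabelian simple normal subgroup. -/
theorem disjoint_centralizer {G : Type u} [Group G] (M : Subgroup G) [IsSimpleGroup M]
    (hM : ¬ IsMulCommutative M) : Disjoint M (Subgroup.centralizer (M : Set G)) := by
  rw [disjoint_iff]
  haveI : ((Subgroup.centralizer (M : Set G)).subgroupOf M).Normal := by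
    refine ⟨fun n hn g => ?_⟩
    rw [Subgroup.mem_subgroupOf] at hn ⊢
    have : (g : G) * n * (g : G)⁻¹ = n := by
      rw [Subgroup.mem_centralizer_iff.1 hn g g.2, mul_inv_cancel_right]
    rw [Subgroup.coe_mul, Subgroup.coe_mul, Subgroup.coe_inv, this]
    exact hn
  rcases (inferInstance : ((Subgroup.centralizer (M : Set G)).subgroupOf M).Normal).eq_bot_or_eq_top with h | h
  · rw [Subgroup.subgroupOf_eq_bot, disjoint_iff, inf_comm] at h
    exact h
  · exfalso
    rw [Subgroup.subgroupOf_eq_top] at h
    exact hM (IsMulCommutative.of_comm fun a b =>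
      Subtype.ext (Subgroup.mem_centralizer_iff.1 (h b.2) a a.2))

/-- A minimal normal subgroup of a solvable kind: a power of a prime, abelian. -/
theorem abelian_of_minimal {G : Type u} [Group G] [Finite G] (M : Subgroup G) [M.Normal] (hM : M ≠ ⊥)
    (hmin : ∀ K : Subgroup G, K.Normal → K ≤ M → K = ⊥ ∨ K = M) (hs : Group.IsSolvable M) :
    IsPrimePow (Nat.card M) ∧ ∀ a ∈ M, ∀ b ∈ M, a * b = b * a := by
  haveI := hs
  haveI : Nontrivial M := (Subgroup.nontrivial_iff_ne_bot M).2 hM
  have hcommM : ∀ a ∈ M, ∀ b ∈ M, a * b = b * a := by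
    have hlt : (commutator M).map M.subtype < M := by
      have h := IsSolvable.commutator_lt_top_of_nontrivial M
      rw [lt_iff_le_and_ne]
      refine ⟨Subgroup.map_subtype_le _, fun e => h.ne ?_⟩
      exact Subgroup.map_injective M.subtype_injective (e.trans (by
        rw [← MonoidHom.range_eq_map, Subgroup.range_subtype]))
    haveI : (commutator M).Characteristic := inferInstance
    have h0 := (hmin _ inferInstance hlt.le).resolve_right hlt.ne
    rw [Subgroup.map_eq_bot_iff_of_injective _ M.subtype_injective] at h0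
    intro a ha b hb
    have h1 : ⁅(⟨a, ha⟩ : M), ⟨b, hb⟩⁆ ∈ commutator M :=
      Subgroup.commutator_mem_commutator (Subgroup.mem_top _) (Subgroup.mem_top _)
    rw [h0, Subgroup.mem_bot] at h1
    exact congrArg Subtype.val (commutatorElement_eq_one_iff_mul_comm.1 h1)
  refine ⟨?_, hcommM⟩
  obtain ⟨p, hp, hpd⟩ := Nat.exists_prime_and_dvd (mt Subgroup.card_eq_one.mp hM)
  haveI := Fact.mk hp
  obtain ⟨P⟩ := (inferInstance : Nonempty (Sylow p M))
  haveI : (P : Subgroup M).Normal := ⟨fun n hn g => by
    have : g * n * g⁻¹ = n := by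
      rw [Subtype.ext (hcommM g g.2 n n.2) (a1 := g * n) (a2 := n * g), mul_inv_cancel_right]
    rw [this]; exact hn⟩
  haveI : (P : Subgroup M).Characteristic := Sylow.characteristic_of_normal P ‹_›
  rcases hmin ((P : Subgroup M).map M.subtype) inferInstance (Subgroup.map_subtype_le _) with h | h
  · exact absurd ((Subgroup.map_eq_bot_iff_of_injective _ M.subtype_injective).1 h) (P.ne_bot_of_dvd_card hpd)
  · have := congrArg (fun L : Subgroup G => Nat.card L) h
    simp only [Subgroup.card_map_of_injective M.subtype_injective] at this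
    obtain ⟨k, hk⟩ := IsPGroup.iff_card.1 P.isPGroup'
    refine ⟨p, k, hp.prime, Nat.pos_of_ne_zero fun h0 => hM (Subgroup.card_eq_one.1 ?_), by rw [← this, hk]⟩
    rw [← this, hk, h0, pow_zero]

end CfsgLib.DegreeGraphSmall
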