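import Cfsg.Agent.Lib.DegreeGraphSmall.Basic
import Cfsg.Agent.Lib.CharTheory.Decomp
import Cfsg.Agent.Lib.CharTheory.Orthogonality
import Cfsg.Agent.Lib.ClassK.SLBlocks

/-!
Counting degrees with the column of an element of prime order.
-/

set_option autoImplicit false
set_option linter.style.haveILetI false

namespace CfsgLib.DegreeGraphSmall

open Cfsg CfsgLib.CharTheory CfsgLib.CharDegreesTheory.SmallDegrees
open scoped ComplexConjugate

universe u

/-- The sum of squares of natural numbers with given total. -/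
theorem sq_sum_lower {ι : Type*} (s : Finset ι) (n : ι → ℕ) {p : ℕ} (hp : 0 < p) (hs : s.card ≤ p)
    {d : ℕ} (hd : ∑ i ∈ s, n i = d) : d ^ 2 + (d % p) * (p - d % p) ≤ p * ∑ i ∈ s, n i ^ 2 := by
  set c : ℤ := ((d / p : ℕ) : ℤ) with hc
  have hr : (d % p : ℕ) ≤ p := (Nat.mod_lt _ hp).le
  have h1 : ∀ i ∈ s, (2 * c + 1) * (n i : ℤ) - c * (c + 1) ≤ (n i : ℤ) ^ 2 := by
    intro i _
    rcases le_or_gt (n i : ℤ) c with h | h <;> nlinarith
  have h2 := Finset.sum_le_sum h1
  rw [Finset.sum_sub_distrib, ← Finset.mul_sum, Finset.sum_const, nsmul_eq_mul] at h2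
  have hd' : ∑ i ∈ s, (n i : ℤ) = d := by exact_mod_cast hd
  rw [hd'] at h2
  have hc0 : 0 ≤ c := Int.natCast_nonneg _
  have h3 : ((s.card : ℕ) : ℤ) * (c * (c + 1)) ≤ (p : ℤ) * (c * (c + 1)) :=
    mul_le_mul_of_nonneg_right (by exact_mod_cast hs) (by positivity)
  zify [hr]
  have h4 : (p : ℤ) * c + ((d % p : ℕ) : ℤ) = d := by
    rw [hc]; exact_mod_cast Nat.div_add_mod d p
  push_cast at h4 h2 ⊢
  nlinarith

variable {G : Type u} [Group G] [Finite G]

/-- An irreducible character on a subgroup of prime order. -/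
theorem exists_sum_norm_sq {p : ℕ} (Q : Subgroup G) [Fintype Q] (hQ : Nat.card Q = p) (hp : p.Prime)
    (χ : IrrCharacter G) :
    ∃ S : ℕ, ∑ z : Q, ‖(χ : G → ℂ) z‖ ^ 2 = (p : ℝ) * S ∧
      charDegree (χ : G → ℂ) ^ 2 + (charDegree (χ : G → ℂ) % p) * (p - charDegree (χ : G → ℂ) % p)
        ≤ p * S := by
  classical
  haveI := Fintype.ofFinite (IrrCharacter Q)
  haveI := Fact.mk hp
  haveI : IsCyclic Q := isCyclic_of_prime_card hQ
  have hres : IsCharacter Q fun z : Q => (χ : G → ℂ) z := by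
    obtain ⟨n, ρ, hρ⟩ := IsIrrCharacter.isCharacter χ.2
    exact ⟨n, ρ.comp Q.subtype, funext fun z => (congrFun hρ (z : G))⟩
  obtain ⟨m, hm⟩ := IsCharacter.exists_sum hres
  have hcomm : ∀ a b : Q, a * b = b * a := (IsCyclic.commutative (α := Q)).is_comm.comm
  have hd : ∑ ψ, m ψ = charDegree (χ : G → ℂ) := by
    have h := congrFun hm 1
    simp only [Finset.sum_apply, Pi.smul_apply, smul_eq_mul,
      fun ψ : IrrCharacter Q => apply_one_eq_one_of_comm hcomm ψ.2, mul_one] at h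
    rw [OneMemClass.coe_one] at h
    exact_mod_cast ((charDegree_one χ).symm.trans h).symm
  have hcardIrr : Fintype.card (IrrCharacter Q) ≤ p := by
    rw [← Nat.card_eq_fintype_card, card_irrCharacter, ← hQ]
    exact Nat.card_le_card_of_surjective _ ConjClasses.mk_surjective
  refine ⟨∑ ψ, m ψ ^ 2, ?_, sq_sum_lower Finset.univ m hp.pos hcardIrr hd⟩
  have hin : classInner (fun z : Q => (χ : G → ℂ) z) (fun z : Q => (χ : G → ℂ) z) =
      ((∑ ψ, m ψ ^ 2 : ℕ) : ℂ) := by
    conv_lhs => arg 2; rw [hm]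
    rw [classInner_sum_right]
    push_cast
    refine Finset.sum_congr rfl fun ψ _ => ?_
    rw [classInner_smul_right, hm, classInner_sum_irr, Complex.conj_natCast, pow_two]
  rw [classInner, hQ, inv_mul_eq_iff_eq_mul₀ (by exact_mod_cast hp.ne_zero)] at hin
  apply Complex.ofReal_injective
  push_cast at hin ⊢
  rw [← hin]
  exact Finset.sum_congr rfl fun z _ => (Complex.mul_conj' _).symm

/-- The centraliser of a nontrivial element of a subgroup of prime order. -/
theorem centralizer_eq_of_mem {p : ℕ} (hp : p.Prime) {g : G} (hg : orderOf g = p) {z : G}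
    (hz : z ∈ Subgroup.zpowers g) (hz1 : z ≠ 1) :
    Subgroup.centralizer ({z} : Set G) = Subgroup.centralizer ({g} : Set G) := by
  have h : Subgroup.zpowers z = Subgroup.zpowers g := by
    refine Subgroup.eq_of_le_of_card_ge (Subgroup.zpowers_le.2 hz) ?_
    rw [Nat.card_zpowers, Nat.card_zpowers, hg]
    rcases (Nat.dvd_prime hp).1 ((Subgroup.orderOf_dvd_natCard _ hz).trans
      (dvd_of_eq (by rw [Nat.card_zpowers, hg]))) with e | e
    · exact absurd (orderOf_eq_one_iff.1 e) hz1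
    · rw [e]
  rw [← Subgroup.centralizer_closure, ← Subgroup.zpowers_eq_closure, h, Subgroup.zpowers_eq_closure,
    Subgroup.centralizer_closure]

/-- The weights `(d mod p)(p - d mod p)` of the degrees add up to at most `(p-1)|C(g)|`. -/
theorem sum_weight_le [Fintype (IrrCharacter G)] {p : ℕ} (hp : p.Prime) {g : G} (hg : orderOf g = p) :
    ∑ χ : IrrCharacter G, (charDegree (χ : G → ℂ) % p) * (p - charDegree (χ : G → ℂ) % p) ≤
      (p - 1) * Nat.card (Subgroup.centralizer ({g} : Set G)) := by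
  classical
  set Q := Subgroup.zpowers g with hQdef
  haveI := Fintype.ofFinite G
  haveI := Fintype.ofFinite Q
  have hQ : Nat.card Q = p := by rw [hQdef, Nat.card_zpowers, hg]
  choose S hS1 hS2 using exists_sum_norm_sq Q hQ hp
  set C := Nat.card (Subgroup.centralizer ({g} : Set G)) with hC
  have hcol : ∀ z : Q, z ≠ 1 → ∑ χ : IrrCharacter G, ‖(χ : G → ℂ) z‖ ^ 2 = (C : ℝ) := by
    intro z hz
    have h := sum_mul_conj (z : G) z
    rw [if_pos (IsConj.refl _), centralizer_eq_of_mem hp hg z.2 (by simpa using hz)] at h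
    apply Complex.ofReal_injective
    push_cast
    rw [← h]
    exact Finset.sum_congr rfl fun χ _ => (Complex.mul_conj' _).symm
  have h1 : ∀ χ : IrrCharacter G, (charDegree (χ : G → ℂ) : ℝ) ^ 2 +
      ∑ z ∈ Finset.univ.erase (1 : Q), ‖(χ : G → ℂ) z‖ ^ 2 = (p : ℝ) * S χ := fun χ => by
    rw [← hS1 χ, ← Finset.add_sum_erase _ _ (Finset.mem_univ (1 : Q)), OneMemClass.coe_one,
      charDegree_one, Complex.norm_natCast]
  have h2 : ∑ χ : IrrCharacter G, ∑ z ∈ Finset.univ.erase (1 : Q), ‖(χ : G → ℂ) z‖ ^ 2 =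
      ((p - 1 : ℕ) : ℝ) * C := by
    rw [Finset.sum_comm, Finset.sum_congr rfl fun z hz => hcol z (Finset.ne_of_mem_erase hz),
      Finset.sum_const, Finset.card_erase_of_mem (Finset.mem_univ _), nsmul_eq_mul,
      Finset.card_univ, ← Nat.card_eq_fintype_card, hQ]
  rw [← Nat.cast_le (α := ℝ)]
  push_cast [Nat.cast_sum]
  rw [← h2]
  refine Finset.sum_le_sum fun χ _ => ?_
  have := h1 χ
  have h3 : ((charDegree (χ : G → ℂ) ^ 2 + (charDegree (χ : G → ℂ) % p) *
      (p - charDegree (χ : G → ℂ) % p) : ℕ) : ℝ) ≤ ((p * S χ : ℕ) : ℝ) := Nat.cast_le.2 (hS2 χ)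
  push_cast at h3 ⊢
  linarith

/-- The characters negative at a central involution see half of every column of an element of odd
order. -/
theorem sum_negative_sq [Fintype (IrrCharacter G)] {z : G} (hz : z ∈ Subgroup.center G)
    (hz2 : orderOf z = 2) {w : G} (hw : Odd (orderOf w)) :
    2 * ∑ χ ∈ Finset.univ.filter (fun χ : IrrCharacter G => (χ : G → ℂ) z = -(χ : G → ℂ) 1),
      ‖(χ : G → ℂ) w‖ ^ 2 = (Nat.card (Subgroup.centralizer ({w} : Set G)) : ℝ) := by
  classical
  haveI := Fintype.ofFinite G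
  have hzw : ¬ IsConj (z * w) w := fun h => by
    have hc : Commute z w := (Subgroup.mem_center_iff.1 hz w).symm
    have ho : orderOf (z * w) = 2 * orderOf w := by
      rw [hc.orderOf_mul_eq_mul_orderOf_of_coprime (by rw [hz2]; exact Nat.coprime_two_left.2 hw), hz2]
    obtain ⟨c, hc'⟩ := isConj_iff.1 h
    have := (MulAut.conj c).orderOf_eq (z * w)
    rw [MulAut.conj_apply, hc', ho] at this
    have := orderOf_pos w
    omega
  have hval : ∀ χ : IrrCharacter G,
      (χ : G → ℂ) z = (χ : G → ℂ) 1 ∨ (χ : G → ℂ) z = -(χ : G → ℂ) 1 := fun χ => by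
    refine sq_eq_sq_iff_eq_or_eq_neg.1 ?_
    have h := ClassK.SLn.irr_mul_center χ hz z
    rw [show z * z = 1 by rw [← pow_two, ← hz2]; exact pow_orderOf_eq_one z,
      eq_div_iff (apply_one_ne_zero_of_isIrr χ.2)] at h
    rw [pow_two, pow_two, ← h]
  have key : ∀ χ : IrrCharacter G,
      (χ : G → ℂ) w * conj ((χ : G → ℂ) w) - (χ : G → ℂ) (z * w) * conj ((χ : G → ℂ) w) =
      if (χ : G → ℂ) z = -(χ : G → ℂ) 1 then 2 * ((‖(χ : G → ℂ) w‖ ^ 2 : ℝ) : ℂ) else 0 := by
    intro χ
    have h0 := apply_one_ne_zero_of_isIrr χ.2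
    rw [ClassK.SLn.irr_mul_center χ hz]
    rcases hval χ with h | h
    · rw [h, if_neg (fun e => h0 (CharZero.eq_neg_self_iff.1 e))]
      field_simp; ring
    · rw [h, if_pos rfl, Complex.ofReal_pow, ← Complex.mul_conj']
      field_simp; ring
  have h := congrArg₂ (· - ·) (sum_mul_conj w w) (sum_mul_conj (z * w) w)
  rw [← Finset.sum_sub_distrib, Finset.sum_congr rfl fun χ _ => key χ, ← Finset.sum_filter,
    ← Finset.mul_sum, if_pos (IsConj.refl w), if_neg hzw, sub_zero] at h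
  apply Complex.ofReal_injective
  push_cast at h ⊢
  exact h

/-- The weights of the degrees of the characters negative at a central involution. -/
theorem sum_negative_weight_le [Fintype (IrrCharacter G)] {z : G} (hz : z ∈ Subgroup.center G)
    (hz2 : orderOf z = 2) {p : ℕ} (hp : p.Prime) (hodd : Odd p) {g : G} (hg : orderOf g = p) :
    2 * ∑ χ ∈ Finset.univ.filter (fun χ : IrrCharacter G => (χ : G → ℂ) z = -(χ : G → ℂ) 1),
      (charDegree (χ : G → ℂ) % p) * (p - charDegree (χ : G → ℂ) % p) ≤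
      (p - 1) * Nat.card (Subgroup.centralizer ({g} : Set G)) := by
  classical
  set Q := Subgroup.zpowers g with hQdef
  haveI := Fintype.ofFinite Q
  have hQ : Nat.card Q = p := by rw [hQdef, Nat.card_zpowers, hg]
  choose S hS1 hS2 using exists_sum_norm_sq Q hQ hp
  set s := Finset.univ.filter (fun χ : IrrCharacter G => (χ : G → ℂ) z = -(χ : G → ℂ) 1)
  have hcol : ∀ x : Q, x ≠ 1 → 2 * ∑ χ ∈ s, ‖(χ : G → ℂ) x‖ ^ 2 =
      (Nat.card (Subgroup.centralizer ({g} : Set G)) : ℝ) := by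
    intro x hx
    rw [← centralizer_eq_of_mem hp hg x.2 (by simpa using hx)]
    exact sum_negative_sq hz hz2 (hodd.of_dvd_nat
      ((Subgroup.orderOf_dvd_natCard _ x.2).trans (dvd_of_eq hQ)))
  have h1 : ∀ χ : IrrCharacter G, (charDegree (χ : G → ℂ) : ℝ) ^ 2 +
      ∑ x ∈ Finset.univ.erase (1 : Q), ‖(χ : G → ℂ) x‖ ^ 2 = (p : ℝ) * S χ := fun χ => by
    rw [← hS1 χ, ← Finset.add_sum_erase _ _ (Finset.mem_univ (1 : Q)), OneMemClass.coe_one,
      charDegree_one, Complex.norm_natCast]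
  have h2 : 2 * ∑ χ ∈ s, ∑ x ∈ Finset.univ.erase (1 : Q), ‖(χ : G → ℂ) x‖ ^ 2 =
      ((p - 1 : ℕ) : ℝ) * Nat.card (Subgroup.centralizer ({g} : Set G)) := by
    rw [Finset.sum_comm, Finset.mul_sum, Finset.sum_congr rfl fun x hx => hcol x (Finset.ne_of_mem_erase hx),
      Finset.sum_const, Finset.card_erase_of_mem (Finset.mem_univ _), nsmul_eq_mul,
      Finset.card_univ, ← Nat.card_eq_fintype_card, hQ]
  rw [← Nat.cast_le (α := ℝ)]
  push_cast [Nat.cast_sum]
  rw [← h2]
  refine mul_le_mul_of_nonneg_left (Finset.sum_le_sum fun χ _ => ?_) (by norm_num)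
  have := h1 χ
  have h3 : ((charDegree (χ : G → ℂ) ^ 2 + (charDegree (χ : G → ℂ) % p) *
      (p - charDegree (χ : G → ℂ) % p) : ℕ) : ℝ) ≤ ((p * S χ : ℕ) : ℝ) := Nat.cast_le.2 (hS2 χ)
  push_cast at h3 ⊢
  linarith

/-- Half of the order is the sum of the squares of the negative degrees. -/
theorem sum_negative_degree_sq [Fintype (IrrCharacter G)] {z : G} (hz : z ∈ Subgroup.center G)
    (hz2 : orderOf z = 2) :
    2 * ∑ χ ∈ Finset.univ.filter (fun χ : IrrCharacter G => (χ : G → ℂ) z = -(χ : G → ℂ) 1),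
      charDegree (χ : G → ℂ) ^ 2 = Nat.card G := by
  classical
  have h := sum_negative_sq hz hz2 (w := 1) (by simp)
  rw [Subgroup.centralizer_eq_top_iff_subset.2 (by simp), Subgroup.card_top,
    Finset.sum_congr rfl (g := fun χ : IrrCharacter G => ((charDegree (χ : G → ℂ) ^ 2 : ℕ) : ℝ))
      (fun χ _ => by rw [charDegree_one, Complex.norm_natCast]; push_cast; rfl),
    ← Nat.cast_sum] at h
  exact_mod_cast h

end CfsgLib.DegreeGraphSmall
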