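import Cfsg.Agent.Lib.DegreeGraphSmall.Sixty
import Cfsg.Agent.Lib.AltGroups.MinimalNormalProduct
import Cfsg.Agent.Lib.SolvableStructure.MinimalNormal

/-!
Non-solvable groups of order 120: a degree divisible by six or a normal simple subgroup.
-/

set_option autoImplicit false
set_option linter.style.haveILetI false
set_option maxRecDepth 100000

namespace CfsgLib.DegreeGraphSmall

open Cfsg CfsgLib.CharTheory

universe u

/-- A non-solvable minimal normal subgroup is simple when no square of a listed order fits. -/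
theorem simple_of_minimal {G : Type u} [Group G] [Finite G] (h6 : Nat.card G < 6000)
    (hsq : ∀ m ∈ orders, ¬ m ^ 2 ∣ Nat.card G) (M : Subgroup G) [M.Normal] (hM : M ≠ ⊥)
    (hmin : ∀ K : Subgroup G, K.Normal → K ≤ M → K = ⊥ ∨ K = M) (hns : ¬ Group.IsSolvable M) :
    IsSimpleGroup M ∧ Nat.card M ∈ orders := by
  obtain ⟨T, _, m, hT, hm, ⟨e⟩⟩ := AltGroups.exists_mulEquiv_pi_of_minimal_normal M hM hmin
  have hTnc : ¬ IsMulCommutative T := fun hc => hns (by
    letI : CommGroup M := { (inferInstance : Group M) with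
      mul_comm := fun a b => e.injective (by
        rw [map_mul, map_mul]; funext i; exact hc.is_comm.comm _ _) }
    infer_instance)
  haveI : Finite T := Finite.of_surjective (fun x : M => e x ⟨0, hm⟩)
    (fun t => ⟨e.symm (fun _ => t), by simp⟩)
  have hc : Nat.card M = Nat.card T ^ m := by
    rw [Nat.card_congr e.toEquiv, Nat.card_pi, Finset.prod_const, Finset.card_univ, Fintype.card_fin]
  have hle : Nat.card T ≤ Nat.card M := by rw [hc]; exact Nat.le_self_pow hm.ne' _
  have hTm := card_mem_orders hTnc (by have := Subgroup.card_le_card_group M; omega)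
  rcases (show m = 1 ∨ 2 ≤ m by omega) with rfl | h2
  · let e' : M ≃* T := e.trans (MulEquiv.funUnique (Fin 1) T)
    exact ⟨e'.isSimpleGroup, by rw [hc, pow_one]; exact hTm⟩
  · exact absurd ((pow_dvd_pow _ h2).trans (hc ▸ Subgroup.card_subgroup_dvd_card M)) (hsq _ hTm)

theorem centralizer_alt_five : ∀ x : J1Order.A5, x ^ 5 = 1 → x ≠ 1 →
    (Finset.univ.filter fun y : J1Order.A5 => y * x = x * y).card = 5 := by
  decide +kernel

/-- In a simple group of order 60 an element of order five is self-centralising. -/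
theorem card_centralizer_60 {X : Type u} [Group X] [Finite X] [IsSimpleGroup X]
    (h : Nat.card X = 60) {x : X} (hx : orderOf x = 5) :
    Nat.card (Subgroup.centralizer ({x} : Set X)) = 5 := by
  obtain ⟨f⟩ := Cfsg.Agent.S0494.result h
  rw [← centralizer_alt_five (f x) (by
      have h5 : x ^ 5 = 1 := orderOf_dvd_iff_pow_eq_one.1 (dvd_of_eq hx)
      rw [← map_pow, h5, map_one])
    (fun h1 => by rw [MulEquiv.map_eq_one_iff] at h1; rw [h1, orderOf_one] at hx; omega)]
  rw [← Fintype.card_subtype, ← Nat.card_eq_fintype_card]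
  refine Nat.card_congr (f.toEquiv.subtypeEquiv fun y => ?_)
  rw [Subgroup.mem_centralizer_singleton_iff]
  show y * x = x * y ↔ f y * f x = f x * f y
  rw [← map_mul, ← map_mul, f.apply_eq_iff_eq]

/-- The centraliser in a group and in a quotient. -/
theorem card_centralizer_le_quotient {G : Type u} [Group G] [Finite G] (N : Subgroup G) [N.Normal]
    (g : G) : Nat.card (Subgroup.centralizer ({g} : Set G)) ≤
      Nat.card (Subgroup.centralizer ({(g : G ⧸ N)} : Set (G ⧸ N))) * Nat.card N := by
  set D := Subgroup.centralizer ({(g : G ⧸ N)} : Set (G ⧸ N))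
  have h : Subgroup.centralizer ({g} : Set G) ≤ D.comap (QuotientGroup.mk' N) := fun y hy => by
    rw [Subgroup.mem_comap, Subgroup.mem_centralizer_singleton_iff]
    exact congrArg (QuotientGroup.mk' N) (Subgroup.mem_centralizer_singleton_iff.1 hy)
  refine le_trans (Subgroup.card_le_of_le h) (le_of_eq ?_)
  refine Nat.eq_of_mul_eq_mul_right (Nat.pos_of_ne_zero
    (Subgroup.index_ne_zero_of_finite (H := D.comap (QuotientGroup.mk' N)))) ?_
  rw [Subgroup.card_mul_index, D.index_comap_of_surjective (QuotientGroup.mk'_surjective N),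
    ← card_quotient_mul N, ← D.card_mul_index]
  ring

/-- A perfect group of order 120 with a centre of order 2 has a degree six. -/
theorem six_of_perfect_120 {H : Type u} [Group H] [Finite H] (hH : Nat.card H = 120)
    (hperf : commutator H = ⊤) (N : Subgroup H) [N.Normal] (hN : Nat.card N = 2)
    [IsSimpleGroup (H ⧸ N)] : ∃ D ∈ charDegrees H, 2 * 3 ∣ D := by
  classical
  haveI := Fintype.ofFinite (IrrCharacter H)
  haveI : Fact (Nat.Prime 2) := ⟨Nat.prime_two⟩
  haveI : Fact (Nat.Prime 5) := ⟨Nat.prime_five⟩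
  obtain ⟨z0, hz0⟩ := exists_prime_orderOf_dvd_card' (G := N) 2 (dvd_of_eq hN.symm)
  set z := (z0 : H) with hzdef
  have hz2 : orderOf z = 2 := by rw [hzdef, Subgroup.orderOf_coe, hz0]
  have hz : z ∈ Subgroup.center H := by
    rw [Subgroup.mem_center_iff]
    intro y
    have hy : y * z * y⁻¹ ∈ N := ‹N.Normal›.conj_mem z z0.2 y
    have h1 : ∀ w : N, w = 1 ∨ w = z0 := by
      intro w
      obtain ⟨a, b, hab, huniv⟩ := Nat.card_eq_two_iff.1 hN
      have hz1 : z0 ≠ 1 := fun h => by rw [h, orderOf_one] at hz0; omega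
      have hw : w ∈ ({a, b} : Set N) := huniv ▸ Set.mem_univ w
      have h1' : (1 : N) ∈ ({a, b} : Set N) := huniv ▸ Set.mem_univ _
      have h2' : z0 ∈ ({a, b} : Set N) := huniv ▸ Set.mem_univ _
      simp only [Set.mem_insert_iff, Set.mem_singleton_iff] at hw h1' h2'
      grind
    rcases h1 ⟨_, hy⟩ with h | h
    · have h' : y * z * y⁻¹ = 1 := congrArg Subtype.val h
      have : z = 1 := by
        have h2 := congrArg (fun t => y⁻¹ * t * y) h'
        simpa [mul_assoc] using h2
      rw [this, orderOf_one] at hz2; omega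
    · have h' : y * z * y⁻¹ = z := congrArg Subtype.val h
      exact mul_inv_eq_iff_eq_mul.1 h'
  obtain ⟨g, hg⟩ := exists_prime_orderOf_dvd_card' (G := H) 5 (by rw [hH]; norm_num)
  have hgN : (g : H ⧸ N) ≠ 1 := fun h => by
    have := Subgroup.orderOf_dvd_natCard _ ((QuotientGroup.eq_one_iff g).1 h)
    rw [hg, hN] at this
    norm_num at this
  have hq : Nat.card (H ⧸ N) = 60 := by have := card_quotient_mul N; rw [hN, hH] at this; omega
  have hgq : orderOf (g : H ⧸ N) = 5 := by
    rcases (Nat.dvd_prime Nat.prime_five).1 (hg ▸ orderOf_map_dvd (QuotientGroup.mk' N) g) with h | h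
    · exact absurd (orderOf_eq_one_iff.1 h) hgN
    · exact h
  have hC : Nat.card (Subgroup.centralizer ({g} : Set H)) ≤ 10 := by
    have := card_centralizer_le_quotient N g
    rw [card_centralizer_60 hq hgq, hN] at this
    omega
  have hw := sum_negative_weight_le hz hz2 Nat.prime_five (by decide) hg
  have hd := sum_negative_degree_sq hz hz2
  set s := Finset.univ.filter (fun χ : IrrCharacter H => (χ : H → ℂ) z = -(χ : H → ℂ) 1)
  rw [hH] at hd
  by_contra hno
  have hdeg : ∀ χ ∈ s, charDegree (χ : H → ℂ) = 2 ∨ charDegree (χ : H → ℂ) = 4 := by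
    intro χ hχ
    have hχz := (Finset.mem_filter.1 hχ).2
    obtain ⟨d', hd', hdvd⟩ := exists_degree_dvd_index_of_abelian χ.2 (⊥ : Subgroup H)
      (fun a ha b hb => by rw [Subgroup.mem_bot.1 ha, Subgroup.mem_bot.1 hb])
    rw [Subgroup.index_bot, hH] at hdvd
    have hdd : charDegree (χ : H → ℂ) = d' := by
      unfold charDegree; rw [hd', Complex.natCast_re, Nat.floor_natCast]
    obtain ⟨n, ρ, hρ, hρχ⟩ := id χ.2
    haveI := hρ
    have hn : d' = n := by
      have h1 := congrFun hρχ 1
      rw [ρ.char_one, hd', Module.finrank_fin_fun] at h1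
      exact_mod_cast h1.symm
    have hnorm : ‖ρ.character z‖ = Module.finrank ℂ (Fin n → ℂ) := by
      rw [hρχ, hχz, norm_neg, hd', Complex.norm_natCast, Module.finrank_fin_fun, hn]
    obtain ⟨ω, hω⟩ := (norm_character_eq_iff ρ z).1 hnorm
    have hn0 : (n : ℂ) ≠ 0 := by
      rw [← hn, ← hd']; exact apply_one_ne_zero_of_isIrr χ.2
    have hω1 : ω = -1 := by
      have h1 := congrFun hρχ z
      rw [Representation.character, hω, map_smul, LinearMap.trace_id, Module.finrank_fin_fun, hχz,
        hd', hn, smul_eq_mul] at h1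
      refine mul_right_cancel₀ hn0 ?_
      rw [h1, neg_one_mul]
    have hdet : LinearMap.det (ρ z) = 1 := by
      let δ : H →* ℂˣ := MonoidHom.toHomUnits (LinearMap.det.comp (ρ : H →* _))
      have : z ∈ δ.ker := Abelianization.commutator_subset_ker δ (hperf ▸ Subgroup.mem_top z)
      exact congrArg Units.val (MonoidHom.mem_ker.1 this)
    rw [hω, hω1, LinearMap.det_smul, LinearMap.det_id, mul_one, Module.finrank_fin_fun] at hdet
    have heven : Even n := (neg_one_pow_eq_one_iff_even (by norm_num)).1 hdet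
    have hsq : charDegree (χ : H → ℂ) ^ 2 ≤ 60 := by
      have := Finset.single_le_sum (f := fun φ : IrrCharacter H => charDegree (φ : H → ℂ) ^ 2)
        (fun _ _ => Nat.zero_le _) hχ
      omega
    have h6 : ¬ 2 * 3 ∣ charDegree (χ : H → ℂ) := fun h => hno ⟨_, ⟨χ, rfl⟩, h⟩
    have hle : charDegree (χ : H → ℂ) < 8 := by nlinarith
    rw [hdd] at h6 hle ⊢
    obtain ⟨k, hk⟩ := heven
    have hpos : 0 < n := Nat.pos_of_ne_zero fun h => hn0 (by rw [h, Nat.cast_zero])
    omega
  set a := (s.filter fun χ : IrrCharacter H => charDegree (χ : H → ℂ) = 2).card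
  set b := (s.filter fun χ : IrrCharacter H => ¬ charDegree (χ : H → ℂ) = 2).card
  rw [← Finset.sum_filter_add_sum_filter_not s (fun χ : IrrCharacter H => charDegree (χ : H → ℂ) = 2),
    Finset.sum_const_nat (m := 6) (fun χ hχ => by rw [(Finset.mem_filter.1 hχ).2]),
    Finset.sum_const_nat (m := 4) (fun χ hχ => by
      obtain ⟨h1, h2⟩ := Finset.mem_filter.1 hχ
      rw [(hdeg χ h1).resolve_left h2])] at hw
  rw [← Finset.sum_filter_add_sum_filter_not s (fun χ : IrrCharacter H => charDegree (χ : H → ℂ) = 2),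
    Finset.sum_const_nat (m := 4) (fun χ hχ => by rw [(Finset.mem_filter.1 hχ).2]; rfl),
    Finset.sum_const_nat (m := 16) (fun χ hχ => by
      obtain ⟨h1, h2⟩ := Finset.mem_filter.1 hχ
      rw [(hdeg χ h1).resolve_left h2]; rfl)] at hd
  have : (5 - 1) * Nat.card (Subgroup.centralizer ({g} : Set H)) ≤ 40 := by omega
  omega

/-- A non-solvable group of order 120. -/
theorem six_or_normal_120 {H : Type u} [Group H] [Finite H] (hH : Nat.card H = 120)
    (hns : ¬ Group.IsSolvable H) :
    (∃ D ∈ charDegrees H, 2 * 3 ∣ D) ∨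
      ∃ L : Subgroup H, L.Normal ∧ IsSimpleGroup L ∧ Nat.card L = 60 := by
  have hsub : ∀ N : Subgroup H, N.Normal → Nat.card N < 120 → ¬ Group.IsSolvable N →
      IsSimpleGroup N ∧ Nat.card N = 60 := by
    intro N _ hlt hN
    have hd : Nat.card N ∣ 120 := hH ▸ Subgroup.card_subgroup_dvd_card N
    have hmem := Nat.mem_divisors.2 ⟨hd, by norm_num⟩
    obtain ⟨hs, hnc⟩ := simple_of_not_isSolvable (by omega) hN
      ((by decide +kernel : ∀ n ∈ Nat.divisors 120, n < 120 → ∀ m ∈ orders, m ∣ n → m = n) _ hmem hlt)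
    haveI := hs
    exact ⟨hs, (by decide +kernel : ∀ n ∈ Nat.divisors 120, n ∈ orders → n = 60) _ hmem
      (card_mem_orders hnc (by omega))⟩
  by_cases hnone : ∃ L : Subgroup H, L.Normal ∧ IsSimpleGroup L ∧ Nat.card L = 60
  · exact Or.inr hnone
  left
  have hns' : ¬ IsSimpleGroup H := fun h => by
    haveI := h
    have := card_mem_orders (G := H) (fun hc => hns (by
      letI : CommGroup H := { (inferInstance : Group H) with mul_comm := hc.is_comm.comm }
      infer_instance)) (by omega)
    rw [hH] at this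
    exact absurd this (by decide)
  haveI : Nontrivial H := Finite.one_lt_card_iff_nontrivial.1 (by omega)
  have hsolN : ∀ N : Subgroup H, N.Normal → Nat.card N < 120 → Group.IsSolvable N :=
    fun N hN hlt => by_contra fun h => hnone ⟨N, hN, hsub N hN hlt h⟩
  have hperf : commutator H = ⊤ := by
    by_contra h
    have hlt : Nat.card (commutator H) < 120 := hH ▸ lt_of_le_of_ne
      (Subgroup.card_le_card_group _) fun e => h (Subgroup.eq_top_of_card_eq _ e)
    haveI := hsolN _ (by rw [commutator_def]; infer_instance) hlt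
    exact hns (Group.isSolvable_of_ker_le_range (commutator H).subtype
      (Abelianization.of : H →* Abelianization H)
      (by rw [Abelianization.ker_of, Subgroup.range_subtype]))
  obtain ⟨N, hN, h1, hlt⟩ := exists_normal_lt hns'
  have hd : Nat.card N ∣ 120 := hH ▸ Subgroup.card_subgroup_dvd_card N
  have hq := card_quotient_mul N
  have hqns : ¬ Group.IsSolvable (H ⧸ N) := fun h => by
    haveI := h
    haveI := hsolN N hN (hH ▸ hlt)
    exact hns (Group.isSolvable_of_ker_le_range N.subtype (QuotientGroup.mk' N)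
      (by rw [QuotientGroup.ker_mk', Subgroup.range_subtype]))
  have hqd : Nat.card (H ⧸ N) ∣ 120 := hH ▸ Subgroup.card_quotient_dvd_card N
  have hqlt : Nat.card (H ⧸ N) < 120 := by
    rw [← hH, ← hq]; exact lt_mul_of_one_lt_right Nat.card_pos h1
  have hmem := Nat.mem_divisors.2 ⟨hqd, show (120 : ℕ) ≠ 0 by norm_num⟩
  obtain ⟨hs, hnc⟩ := simple_of_not_isSolvable (by omega) hqns
    ((by decide +kernel : ∀ n ∈ Nat.divisors 120, n < 120 → ∀ m ∈ orders, m ∣ n → m = n) _ hmem hqlt)
  haveI := hs
  have h60 : Nat.card (H ⧸ N) = 60 :=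
    (by decide +kernel : ∀ n ∈ Nat.divisors 120, n ∈ orders → n = 60 ∨ n = 120) _ hmem
      (card_mem_orders hnc (by omega)) |>.resolve_right (by omega)
  haveI := hN
  exact six_of_perfect_120 hH hperf N (by rw [h60, hH] at hq; omega)

end CfsgLib.DegreeGraphSmall
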