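import Cfsg.Agent.Lib.DegreeGraphSmall.Centralize
import Cfsg.Agent.Lib.DegreeGraphSmall.Order120

/-!
A non-simple group of order 2520 has a normal subgroup of order 5 or 7.
-/

set_option autoImplicit false
set_option linter.style.haveILetI false

namespace CfsgLib.DegreeGraphSmall

universe u

theorem sq_not_dvd_of_dvd_2520 {n r : ℕ} (hn : n ∣ 2520) (hr : r = 5 ∨ r = 7) : ¬ r ^ 2 ∣ n := by
  intro h
  rcases hr with rfl | rfl <;> exact absurd (h.trans hn) (by norm_num)

/-- The lifting step over an abelian minimal normal subgroup. -/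
theorem lift_2520 {G : Type u} [Group G] [Finite G] (hd : Nat.card G ∣ 2520) (M : Subgroup G)
    [M.Normal] {r : ℕ} (hr : r = 5 ∨ r = 7) (hM1 : 1 < Nat.card M) (hrM : ¬ r ∣ Nat.card M)
    (hpow : IsPrimePow (Nat.card M)) (hne : r = 7 → Nat.card M ≠ 8)
    (h : ∃ R : Subgroup (G ⧸ M), R.Normal ∧ Nat.card R = r) :
    ∃ R : Subgroup G, R.Normal ∧ Nat.card R = r := by
  have hm : Nat.card M ∈ Nat.divisors 2520 :=
    Nat.mem_divisors.2 ⟨(Subgroup.card_subgroup_dvd_card M).trans hd, by norm_num⟩
  have h6 : Nat.card G < 6000 := by have := Nat.le_of_dvd (by norm_num) hd; omega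
  rcases hr with rfl | rfl
  · have key := (by decide +kernel : ∀ m ∈ Nat.divisors 2520, IsPrimePow m → ¬ 5 ∣ m →
      (∀ d ∈ Nat.divisors (5 * m), IsPrimePow d → d % 5 ≠ 1) ∧ ∀ o ∈ orders, ¬ o ∣ 5 * m) _ hm hpow hrM
    exact exists_normal_prime_of_quotient M Nat.prime_five hM1 hrM h6
      (fun d hdd => key.1 d (Nat.mem_divisors.2 ⟨hdd, by have := Nat.card_pos (α := M); omega⟩))
      (Or.inr fun o ho _ => key.2 o ho) h
  · have key := (by decide +kernel : ∀ m ∈ Nat.divisors 2520, IsPrimePow m → ¬ 7 ∣ m → m ≠ 8 →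
      (∀ d ∈ Nat.divisors (7 * m), IsPrimePow d → d % 7 ≠ 1) ∧ ∀ o ∈ orders, ¬ o ∣ 7 * m) _ hm hpow hrM (hne rfl)
    exact exists_normal_prime_of_quotient M (by norm_num) hM1 hrM h6
      (fun d hdd => key.1 d (Nat.mem_divisors.2 ⟨hdd, by have := Nat.card_pos (α := M); omega⟩))
      (Or.inr fun o ho _ => key.2 o ho) h

/-- A normal simple subgroup of order 360 in a group of order 2520. -/
theorem normal_five_of_360 {G : Type u} [Group G] [Finite G] (hG : Nat.card G = 2520)
    (M : Subgroup G) [M.Normal] [IsSimpleGroup M] (hM : Nat.card M = 360) :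
    ∃ R : Subgroup G, R.Normal ∧ (Nat.card R = 5 ∨ Nat.card R = 7) := by
  classical
  haveI : Fact (Nat.Prime 7) := ⟨by norm_num⟩
  haveI : Fact (Nat.Prime 5) := ⟨Nat.prime_five⟩
  have hidx : M.index = 7 := by have := M.card_mul_index; rw [hM, hG] at this; omega
  obtain ⟨x, hx⟩ := exists_prime_orderOf_dvd_card' (G := G) 7 (by rw [hG]; norm_num)
  set C := Subgroup.centralizer ({x} : Set G) with hC
  have h9 : 9 ∣ Nat.card C := pow_dvd_centralizer M (q := 3) (a := 2) (by norm_num) hidx (by rw [hM]; norm_num) hx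
    Nat.prime_three (by norm_num) (fun j hj hjd => by
      have : j ≤ 2 := by
        by_contra hj3
        have := (pow_dvd_pow 3 (show 3 ≤ j by omega)).trans (hG ▸ hjd)
        norm_num at this
      interval_cases j <;> norm_num) (by rw [hG]; norm_num)
  have h5 : 5 ∣ Nat.card C := by
    have := pow_dvd_centralizer M (q := 5) (a := 1) (by norm_num) hidx (by rw [hM]; norm_num) hx
      Nat.prime_five (by norm_num) (fun j hj hjd => by
        have : j ≤ 1 := by
          by_contra hj3
          have := (pow_dvd_pow 5 (show 2 ≤ j by omega)).trans (hG ▸ hjd)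
          norm_num at this
        interval_cases j; norm_num) (by rw [hG]; norm_num)
    simpa using this
  have h7 : 7 ∣ Nat.card C := by
    rw [← hx, ← Nat.card_zpowers]
    exact Subgroup.card_dvd_of_le (Subgroup.zpowers_le.2 (Subgroup.mem_centralizer_singleton_iff.2 rfl))
  have hCd : Nat.card C ∣ 2520 := hG ▸ Subgroup.card_subgroup_dvd_card C
  have h315 : 315 ∣ Nat.card C := by
    have h45 : 45 ∣ Nat.card C := (show Nat.Coprime 9 5 by norm_num).mul_dvd_of_dvd_of_dvd h9 h5
    exact (show Nat.Coprime 45 7 by norm_num).mul_dvd_of_dvd_of_dvd h45 h7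
  have hCmul := C.card_mul_index
  rw [hG] at hCmul
  have hidxC : C.index ≤ 8 := by
    obtain ⟨c, hc⟩ := h315
    rw [hc, mul_assoc] at hCmul
    have hcpos : 0 < c := Nat.pos_of_ne_zero fun h => by rw [h] at hc; exact Nat.card_pos.ne' (by simpa using hc)
    have : c * C.index = 8 := by omega
    rw [← this]; exact Nat.le_mul_of_pos_left _ hcpos
  by_cases h8 : C.index = 8
  · -- the centraliser has a normal subgroup of order 5
    have hC315 : Nat.card C = 315 := by rw [h8] at hCmul; omega
    obtain ⟨R, hR, hRc⟩ := exists_normal_prime (G := C) Nat.prime_five (by rw [hC315]; norm_num)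
      (by rw [hC315]; norm_num) (by omega)
      (fun d hd => (by decide +kernel : ∀ e ∈ Nat.divisors 315, IsPrimePow e → e % 5 ≠ 1) d
        (Nat.mem_divisors.2 ⟨hC315 ▸ hd, by norm_num⟩))
      (fun ⟨hs, hnc⟩ => by
        have := card_mem_orders (G := C) hnc (by omega)
        rw [hC315] at this; exact absurd this (by decide))
      (Or.inr (by rw [hC315]; decide +kernel))
    set R' := R.map C.subtype with hR'
    have hR'c : Nat.card R' = 5 := by rw [Subgroup.card_map_of_injective C.subtype_injective, hRc]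
    have hle : C ≤ Subgroup.normalizer (R' : Set G) := by
      intro c hc
      rw [Subgroup.mem_normalizer_iff]
      intro n
      constructor
      · rintro ⟨y, hy, rfl⟩
        exact ⟨⟨c, hc⟩ * y * (⟨c, hc⟩ : C)⁻¹, hR.conj_mem y hy ⟨c, hc⟩, rfl⟩
      · rintro ⟨y, hy, he⟩
        refine ⟨(⟨c, hc⟩ : C)⁻¹ * y * ((⟨c, hc⟩ : C)⁻¹)⁻¹, hR.conj_mem y hy _, ?_⟩
        simp only [map_mul, map_inv, inv_inv, he]
        show c⁻¹ * (c * n * c⁻¹) * c = n
        group
    have hp5 : IsPGroup 5 R' := IsPGroup.of_card (n := 1) (by rw [hR'c, pow_one])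
    have hni : ¬ 5 ∣ R'.index := fun hd => by
      have := Nat.mul_dvd_mul_left 5 hd
      rw [show 5 * R'.index = Nat.card G by rw [← R'.card_mul_index, hR'c], hG] at this
      norm_num at this
    set P := hp5.toSylow hni with hP
    have hn5 : Nat.card (Sylow 5 G) ∣ 8 := by
      rw [P.card_eq_index_normalizer, ← h8]
      exact Subgroup.index_dvd_of_le hle
    have hmod := card_sylow_modEq_one 5 G
    have h1 : Nat.card (Sylow 5 G) = 1 := by
      have hle8 := Nat.le_of_dvd (by norm_num) hn5
      unfold Nat.ModEq at hmod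
      interval_cases h : Nat.card (Sylow 5 G) <;> omega
    haveI := (Nat.card_eq_one_iff_unique.1 h1).1
    exact ⟨R', (by have := P.normal_of_subsingleton; exact this), Or.inl hR'c⟩
  · -- otherwise the element is central
    have hCtop : C = ⊤ := by
      by_contra hne
      haveI : ((C.subgroupOf M)).FiniteIndex := inferInstance
      have hdvd : C.relIndex M ∣ 1 ∨ 6 ≤ C.relIndex M := by
        rcases eq_or_ne (C.subgroupOf M) ⊤ with h | h
        · exact Or.inl (by rw [Subgroup.relIndex, h, Subgroup.index_top])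
        · have := SmallGroups.index_gt (G := M) (fun hc => by
            letI : CommGroup M := { (inferInstance : Group M) with mul_comm := hc.is_comm.comm }
            have := IsSimpleGroup.prime_card (α := M)
            rw [hM] at this; norm_num at this) h (k := 5) (by rw [hM]; decide)
          exact Or.inr this
      have hrel : C.relIndex M ≤ C.index := by
        rw [← Subgroup.relIndex_top_right]
        exact Subgroup.relIndex_le_of_le_right le_top (by rw [Subgroup.relIndex_top_right]; exact Subgroup.index_ne_zero_of_finite)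
      have hCi : C.index < 6 := by
        have : C.index ∣ 8 := by
          obtain ⟨c, hc⟩ := h315
          refine Dvd.intro_left c (Nat.eq_of_mul_eq_mul_left (show 0 < 315 by norm_num) ?_)
          rw [← mul_assoc, ← hc, hCmul]
        interval_cases C.index <;> first | omega | norm_num at this
      rcases hdvd with h | h
      · have hMC : M ≤ C := Subgroup.relIndex_eq_one.1 (Nat.dvd_one.1 h)
        have hdvd' : 2520 ∣ Nat.card C := by
          have : 360 ∣ Nat.card C := hM ▸ Subgroup.card_dvd_of_le hMC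
          exact (show Nat.Coprime 360 7 by norm_num).mul_dvd_of_dvd_of_dvd this h7
        exact hne (Subgroup.eq_top_of_card_eq _ (hG ▸ Nat.dvd_antisymm hCd hdvd'))
      · omega
    refine ⟨Subgroup.zpowers x, ⟨fun n hn g => ?_⟩, Or.inr (by rw [Nat.card_zpowers, hx])⟩
    obtain ⟨k, rfl⟩ := Subgroup.mem_zpowers_iff.1 hn
    have hg : g ∈ C := hCtop ▸ Subgroup.mem_top g
    have hc : Commute g x := Subgroup.mem_centralizer_singleton_iff.1 hg
    rw [(hc.zpow_right k).eq, mul_inv_cancel_right]
    exact hn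

/-- A non-simple group whose order divides 2520 and is divisible by 35 has a normal subgroup of
order 5 or 7. -/
theorem exists_normal_five_or_seven {G : Type u} [Group G] [Finite G] (hd : Nat.card G ∣ 2520)
    (h35 : 35 ∣ Nat.card G) (hns : ¬ (IsSimpleGroup G ∧ ¬ IsMulCommutative G)) :
    ∃ R : Subgroup G, R.Normal ∧ (Nat.card R = 5 ∨ Nat.card R = 7) := by
  induction hn : Nat.card G using Nat.strong_induction_on generalizing G with
  | _ n ih =>
    subst hn
    have h6 : Nat.card G < 6000 := by have := Nat.le_of_dvd (by norm_num) hd; omega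
    have h5G : 5 ∣ Nat.card G := (by norm_num : 5 ∣ 35).trans h35
    have h7G : 7 ∣ Nat.card G := (by norm_num : 7 ∣ 35).trans h35
    by_cases hc : IsMulCommutative G
    · obtain ⟨R, hR, hRc⟩ := exists_normal_prime_of_comm hc Nat.prime_five h5G
      exact ⟨R, hR, Or.inl hRc⟩
    haveI : Nontrivial G := not_subsingleton_iff_nontrivial.1 fun h =>
      hc (IsMulCommutative.of_comm fun a b => Subsingleton.elim _ _)
    obtain ⟨M, -, hMn, hM1, hmin⟩ := SolvableStructure.exists_minimal_normal (G := G) (N := ⊤)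
      inferInstance (by exact top_ne_bot)
    haveI := hMn
    haveI : Nontrivial M := (Subgroup.nontrivial_iff_ne_bot M).2 hM1
    have hM2 : 1 < Nat.card M := Finite.one_lt_card
    have hMlt : Nat.card M < Nat.card G := lt_of_le_of_ne (Subgroup.card_le_card_group M) fun e => by
      have htop := Subgroup.eq_top_of_card_eq _ e
      subst htop
      exact hns ⟨⟨fun K hK => hmin K hK le_top⟩, hc⟩
    have hMd : Nat.card M ∣ 2520 := (Subgroup.card_subgroup_dvd_card M).trans hd
    have hmem := Nat.mem_divisors.2 ⟨hMd, show (2520 : ℕ) ≠ 0 by norm_num⟩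
    by_cases hMs : Group.IsSolvable M
    · obtain ⟨hpow, -⟩ := abelian_of_minimal M hM1 hmin hMs
      have hcases := (by decide +kernel : ∀ m ∈ Nat.divisors 2520, IsPrimePow m →
        m = 5 ∨ m = 7 ∨ (¬ 5 ∣ m ∧ ¬ 7 ∣ m)) _ hmem hpow
      rcases hcases with h | h | ⟨h5, h7⟩
      · exact ⟨M, hMn, Or.inl h⟩
      · exact ⟨M, hMn, Or.inr h⟩
      have hq := card_quotient_mul M
      have hqlt : Nat.card (G ⧸ M) < Nat.card G := by
        rw [← hq]; exact lt_mul_of_one_lt_right Nat.card_pos hM2
      have hqd : Nat.card (G ⧸ M) ∣ 2520 := (Subgroup.card_quotient_dvd_card M).trans hd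
      have h5q : 5 ∣ Nat.card (G ⧸ M) := ((Nat.Prime.dvd_mul Nat.prime_five).1 (hq ▸ h5G)).resolve_right h5
      have h7q : 7 ∣ Nat.card (G ⧸ M) :=
        ((Nat.Prime.dvd_mul (by norm_num : Nat.Prime 7)).1 (hq ▸ h7G)).resolve_right h7
      have h35q : 35 ∣ Nat.card (G ⧸ M) :=
        (show Nat.Coprime 5 7 by norm_num).mul_dvd_of_dvd_of_dvd h5q h7q
      have hqns : ¬ (IsSimpleGroup (G ⧸ M) ∧ ¬ IsMulCommutative (G ⧸ M)) := fun ⟨hs, hnc⟩ => by
        haveI := hs
        have := (by decide +kernel : ∀ m ∈ Nat.divisors 2520, 35 ∣ m → m ∈ orders → m = 2520) _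
          (Nat.mem_divisors.2 ⟨hqd, by norm_num⟩) h35q (card_mem_orders hnc (by omega))
        have := Nat.le_of_dvd (by norm_num) hd
        omega
      by_cases h8 : Nat.card M = 8
      · have h315 : Nat.card (G ⧸ M) ∣ 315 := by
          refine Nat.dvd_of_mul_dvd_mul_right (show 0 < 8 by norm_num) ?_
          rw [← h8, hq, h8]
          exact hd
        obtain ⟨R, hR, hRc⟩ := exists_normal_prime (G := G ⧸ M) Nat.prime_five h5q
          (fun h => absurd (h.trans hqd) (by norm_num)) (by omega)
          (fun d hdd => (by decide +kernel : ∀ e ∈ Nat.divisors 315, IsPrimePow e → e % 5 ≠ 1) d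
            (Nat.mem_divisors.2 ⟨hdd.trans h315, by norm_num⟩))
          hqns (Or.inr fun m hm hm5 hmd => absurd (hmd.trans h315)
            ((by decide +kernel : ∀ o ∈ orders, 5 ∣ o → ¬ o ∣ 315) m hm hm5))
        obtain ⟨R', hR', hRc'⟩ := lift_2520 hd M (Or.inl rfl) hM2 h5 hpow (fun h => by norm_num at h)
          ⟨R, hR, hRc⟩
        exact ⟨R', hR', Or.inl hRc'⟩
      obtain ⟨R, hR, hRc⟩ := ih _ hqlt hqd h35q hqns rfl
      rcases hRc with hRc | hRc
      · obtain ⟨R', hR', hRc'⟩ := lift_2520 hd M (Or.inl rfl) hM2 h5 hpow (fun _ => h8) ⟨R, hR, hRc⟩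
        exact ⟨R', hR', Or.inl hRc'⟩
      · obtain ⟨R', hR', hRc'⟩ := lift_2520 hd M (Or.inr rfl) hM2 h7 hpow (fun _ => h8) ⟨R, hR, hRc⟩
        exact ⟨R', hR', Or.inr hRc'⟩
    · obtain ⟨hs, hmo⟩ := simple_of_minimal h6 (fun m hm hmd => absurd (hmd.trans hd)
        ((by decide +kernel : ∀ o ∈ orders, ¬ o ^ 2 ∣ 2520) m hm)) M hM1 hmin hMs
      haveI := hs
      have hMnc : ¬ IsMulCommutative M := fun hc' => hMs (by
        letI : CommGroup M := { (inferInstance : Group M) with mul_comm := hc'.is_comm.comm }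
        infer_instance)
      have hMne : Nat.card M ≠ 2520 := by have := Nat.le_of_dvd (by norm_num) hd; omega
      by_cases h360 : Nat.card M = 360
      · have hG2520 : Nat.card G = 2520 := by
          refine Nat.dvd_antisymm hd ?_
          exact (show Nat.Coprime 360 7 by norm_num).mul_dvd_of_dvd_of_dvd
            (h360 ▸ Subgroup.card_subgroup_dvd_card M) h7G
        exact normal_five_of_360 hG2520 M h360
      obtain ⟨r, hr, hrM, hpp, hr'⟩ : ∃ r : ℕ, (r = 5 ∨ r = 7) ∧ ¬ r ∣ Nat.card M ∧
          (∀ d, d ∣ r * Nat.card M → IsPrimePow d → d % r ≠ 1) ∧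
          (∀ c ∈ Nat.divisors 2520, c * Nat.card M ∣ 2520 → r ∣ c →
            (∀ d ∈ Nat.divisors c, IsPrimePow d → d % r ≠ 1) ∧ ∀ o ∈ orders, ¬ o ∣ c) := by
        have hc := (by decide +kernel : ∀ m ∈ Nat.divisors 2520, m ∈ orders → m ≠ 360 → m ≠ 2520 →
          m = 60 ∨ m = 168 ∨ m = 504) _ hmem hmo h360 hMne
        rcases hc with h | h | h <;> rw [h]
        · exact ⟨7, Or.inr rfl, by norm_num, fun d hdd => (by decide +kernel :
            ∀ e ∈ Nat.divisors 420, IsPrimePow e → e % 7 ≠ 1) d (Nat.mem_divisors.2 ⟨hdd, by norm_num⟩),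
            by decide +kernel⟩
        · exact ⟨5, Or.inl rfl, by norm_num, fun d hdd => (by decide +kernel :
            ∀ e ∈ Nat.divisors 840, IsPrimePow e → e % 5 ≠ 1) d (Nat.mem_divisors.2 ⟨hdd, by norm_num⟩),
            by decide +kernel⟩
        · exact ⟨5, Or.inl rfl, by norm_num, fun d hdd => (by decide +kernel :
            ∀ e ∈ Nat.divisors 2520, IsPrimePow e → e % 5 ≠ 1) d (Nat.mem_divisors.2 ⟨hdd, by norm_num⟩),
            by decide +kernel⟩
      have hrp : r.Prime := by rcases hr with rfl | rfl <;> norm_num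
      haveI := Fact.mk hrp
      obtain ⟨x, hx⟩ := exists_prime_orderOf_dvd_card' (G := G) r (by rcases hr with rfl | rfl <;> assumption)
      set C := Subgroup.centralizer (M : Set G) with hC
      haveI : C.Normal := by simp only [hC]; infer_instance
      have hxC : x ∈ C :=
        Subgroup.mem_centralizer_iff.2 (commute_of_prime_outside M hrp hrM hx hpp)
      have hrC : r ∣ Nat.card C := hx ▸ Subgroup.orderOf_dvd_natCard _ hxC
      have hdis := disjoint_centralizer M hMnc
      have hCM : Nat.card C * Nat.card M ∣ 2520 := by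
        refine dvd_trans ?_ ((Subgroup.card_subgroup_dvd_card (C ⊔ M)).trans hd)
        have hr1 : M.relIndex C = Nat.card C := by
          rw [Subgroup.relIndex, Subgroup.subgroupOf_eq_bot.2 hdis, Subgroup.index_bot]
        have h := Subgroup.relIndex_mul_relIndex (⊥ : Subgroup G) M (C ⊔ M) bot_le le_sup_right
        rw [Subgroup.relIndex_bot_left, Subgroup.relIndex_bot_left, Subgroup.relIndex_sup_right, hr1] at h
        rw [← h, mul_comm]
      have key := hr' _ (Nat.mem_divisors.2 ⟨(dvd_mul_right _ _).trans hCM, by norm_num⟩) hCM hrC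
      have h2C := fun h => sq_not_dvd_of_dvd_2520 ((dvd_mul_right _ _).trans hCM) hr h
      have hClt : Nat.card C < 6000 := lt_of_le_of_lt (Subgroup.card_le_card_group C) h6
      obtain ⟨R, hR, hRc⟩ := exists_normal_prime_of_normal C hrp h2C
        (exists_normal_prime (G := C) hrp hrC h2C hClt
          (fun d hdd => key.1 d (Nat.mem_divisors.2 ⟨hdd, Nat.card_pos.ne'⟩))
          (fun ⟨hs', hnc⟩ => by haveI := hs'; exact key.2 _ (card_mem_orders hnc hClt) dvd_rfl)
          (Or.inr fun m hm _ hmd => absurd hmd (key.2 m hm)))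
      exact ⟨R, hR, hr.imp (fun h => hRc.trans h) fun h => hRc.trans h⟩

end CfsgLib.DegreeGraphSmall
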