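import Cfsg.Agent.Lib.DegreeGraphSmall.Order120
import Cfsg.Agent.Lib.HallClasses.PrimeDegreesThree
import Cfsg.Agent.S0188

/-!
Non-simple groups of order 360 with a degree divisible by 10 have a degree divisible by 6.
-/

set_option autoImplicit false
set_option linter.style.haveILetI false

namespace CfsgLib.DegreeGraphSmall

open Cfsg CfsgLib.CharTheory
open scoped commutatorElement

universe u

theorem charDegree_dvd_card {G : Type u} [Group G] [Finite G] (χ : IrrCharacter G) :
    ∃ d : ℕ, (χ : G → ℂ) 1 = d ∧ charDegree (χ : G → ℂ) = d ∧ d ∣ Nat.card G := by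
  obtain ⟨d, hd, hdvd⟩ := exists_degree_dvd_index_of_abelian χ.2 (⊥ : Subgroup G)
    (fun a ha b hb => by rw [Subgroup.mem_bot.1 ha, Subgroup.mem_bot.1 hb])
  exact ⟨d, hd, by unfold charDegree; rw [hd, Complex.natCast_re, Nat.floor_natCast],
    Subgroup.index_bot (G := G) ▸ hdvd⟩

theorem sq_le_card {G : Type u} [Group G] [Finite G] (χ : IrrCharacter G) :
    charDegree (χ : G → ℂ) ^ 2 ≤ Nat.card G := by
  haveI := Fintype.ofFinite (IrrCharacter G)
  have h := sum_degree_sq (G := G)
  simp only [CharDegreesTheory.SmallDegrees.charDegree_one] at h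
  have h' : ∑ φ : IrrCharacter G, charDegree (φ : G → ℂ) ^ 2 = Nat.card G := by exact_mod_cast h
  rw [← h']
  exact Finset.single_le_sum (f := fun φ : IrrCharacter G => charDegree (φ : G → ℂ) ^ 2)
    (fun _ _ => Nat.zero_le _) (Finset.mem_univ χ)

/-- The degrees of an internal direct product. -/
theorem product_degrees {G : Type u} [Group G] [Finite G] (L K : Subgroup G) [L.Normal] [K.Normal]
    (hdis : Disjoint L K) (hcard : Nat.card L * Nat.card K = Nat.card G) :
    charDegrees G = charDegrees (L × K) := by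
  let φ : L × K →* G := MonoidHom.noncommCoprod L.subtype K.subtype fun a b =>
    Subgroup.commute_of_normal_of_disjoint L K inferInstance inferInstance hdis _ _ a.2 b.2
  have hinj : Function.Injective φ := by
    rw [injective_iff_map_eq_one]
    rintro ⟨a, b⟩ h
    have h' : (a : G) * b = 1 := h
    have ha : (a : G) ∈ L ⊓ K := ⟨a.2, by rw [eq_inv_of_mul_eq_one_left h']; exact K.inv_mem b.2⟩
    rw [disjoint_iff.1 hdis, Subgroup.mem_bot] at ha
    rw [ha, one_mul] at h'
    exact Prod.ext (Subtype.ext ha) (Subtype.ext h')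
  exact (Correspondences.charDegrees_mulEquiv (MulEquiv.ofBijective φ
    ((Nat.bijective_iff_injective_and_card φ).2 ⟨hinj, by rw [Nat.card_prod, hcard]⟩))).symm

/-- Degrees ten and no six exclude a normal simple subgroup of order 60. -/
theorem six_of_normal_60 {G : Type u} [Group G] [Finite G] (hG : Nat.card G = 360)
    (h10 : ∃ D ∈ charDegrees G, 2 * 5 ∣ D) (L : Subgroup G) [L.Normal] [IsSimpleGroup L]
    (hL : Nat.card L = 60) : ∃ D ∈ charDegrees G, 2 * 3 ∣ D := by
  rcases six_or_complement L hL with h | ⟨K, hK, hdis, hcard⟩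
  · exact h
  haveI := hK
  have hK6 : Nat.card K = 6 := by omega
  have hdeg := product_degrees L K hdis (by rw [hL, hK6, hG])
  rw [hdeg] at h10 ⊢
  by_cases hc : ∀ a b : K, a * b = b * a
  · exfalso
    obtain ⟨D, ⟨θ, rfl⟩, hD⟩ := h10
    obtain ⟨φ, ψ, hφ, hψ, hθ⟩ := (Cfsg.Agent.S0188.result _).1 θ.2
    have hψ1 := apply_one_eq_one_of_comm hc hψ
    have h1 : charDegree (θ : L × K → ℂ) = charDegree φ := by
      unfold charDegree
      rw [hθ]
      simp only [Prod.fst_one, Prod.snd_one, hψ1, mul_one]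
    have hsq := sq_le_card ⟨φ, hφ⟩
    obtain ⟨d, hd1, hd, hdvd⟩ := charDegree_dvd_card ⟨φ, hφ⟩
    change charDegree φ = d at hd
    change charDegree φ ^ 2 ≤ _ at hsq
    have hd0 : d ≠ 0 := fun h => apply_one_ne_zero_of_isIrr hφ
      (by rw [show φ 1 = (d : ℂ) from hd1, h, Nat.cast_zero])
    rw [h1, hd] at hD
    rw [hd, hL] at hsq
    have : 10 ≤ d := Nat.le_of_dvd (Nat.pos_of_ne_zero hd0) hD
    nlinarith
  · obtain ⟨ψ, hψ⟩ := HallClasses.PrimeDegreesThree.exists_nonlinear (G := K) hc
    obtain ⟨e, he1, he, hedvd⟩ := charDegree_dvd_card ψ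
    have hesq := sq_le_card ψ
    rw [he] at hψ hesq
    rw [hK6] at hedvd hesq
    have he2 : e = 2 := by
      have he0 : e ≠ 0 := fun h => apply_one_ne_zero_of_isIrr ψ.2 (by rw [he1, h, Nat.cast_zero])
      have : e < 3 := by nlinarith
      omega
    obtain ⟨d, ⟨φ, rfl⟩, h3⟩ := exists_three_dvd_60 hL
    refine ⟨_, ⟨⟨_, (Cfsg.Agent.S0188.result _).2 ⟨φ, ψ, φ.2, ψ.2, rfl⟩⟩, rfl⟩, ?_⟩
    obtain ⟨d', hd1', hd', -⟩ := charDegree_dvd_card φ
    have : charDegree (fun x : L × K => (φ : L → ℂ) x.1 * (ψ : K → ℂ) x.2) = d' * 2 := by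
      unfold charDegree
      simp only [Prod.fst_one, Prod.snd_one, hd1', he1, he2]
      rw [← Nat.cast_mul, Complex.natCast_re, Nat.floor_natCast]
    rw [this, mul_comm 2 3]
    exact Nat.mul_dvd_mul (hd' ▸ h3) dvd_rfl

/-- A central extension of a simple group of order 60 by order 3 splits. -/
theorem exists_simple_60_of_ext {M : Type u} [Group M] [Finite M] (hM : Nat.card M = 180)
    (A : Subgroup M) [A.Normal] (hA : Nat.card A = 3) [IsSimpleGroup (M ⧸ A)] :
    ∃ K : Subgroup M, K.Characteristic ∧ IsSimpleGroup K ∧ Nat.card K = 60 := by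
  haveI : Fact (Nat.Prime 3) := ⟨Nat.prime_three⟩
  have hq : Nat.card (M ⧸ A) = 60 := by have := card_quotient_mul A; rw [hA, hM] at this; omega
  -- A is central
  have hcent : A ≤ Subgroup.center M := by
    set C := Subgroup.centralizer (A : Set M)
    haveI : C.Normal := by
      simp only [C]
      infer_instance
    have hAC : A ≤ C := fun a ha => Subgroup.mem_centralizer_iff.2 fun b hb => by
      haveI : IsCyclic A := isCyclic_of_prime_card hA
      exact congrArg Subtype.val ((IsCyclic.commutative (α := A)).is_comm.comm ⟨b, hb⟩ ⟨a, ha⟩)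
    rcases ((inferInstance : C.Normal).map _ (QuotientGroup.mk'_surjective A)).eq_bot_or_eq_top with h | h
    · exfalso
      rw [Subgroup.map_eq_bot_iff, QuotientGroup.ker_mk'] at h
      have hCA : C = A := le_antisymm h hAC
      have hdvd := Subgroup.relIndex_dvd_card (C.subgroupOf ⊤) ⊤
      have h20 : C.index ∣ Nat.card (MulAut A) := by
        have hker : C = (MulAut.conjNormal (H := A)).ker := by
          ext x
          rw [MonoidHom.mem_ker, Subgroup.mem_centralizer_iff]
          constructor
          · intro hx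
            ext a
            rw [MulAut.conjNormal_apply, MulAut.one_apply, ← hx a a.2, mul_inv_cancel_right]
          · intro hx b hb
            have h1 := congrArg (fun σ : MulAut A => ((σ ⟨b, hb⟩ : A) : M)) hx
            simp only [MulAut.conjNormal_apply, MulAut.one_apply] at h1
            exact (mul_inv_eq_iff_eq_mul.1 h1).symm
        rw [hker, Subgroup.index_ker]
        exact Subgroup.card_subgroup_dvd_card _
      haveI : IsCyclic A := isCyclic_of_prime_card hA
      rw [IsCyclic.card_mulAut, hA, Nat.totient_prime Nat.prime_three, hCA] at h20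
      rw [Subgroup.index_eq_card, hq] at h20
      norm_num at h20
    · have hC : C = ⊤ := by
        have := congrArg (Subgroup.comap (QuotientGroup.mk' A)) h
        rw [Subgroup.comap_map_eq, QuotientGroup.ker_mk', Subgroup.comap_top, sup_eq_left.2 hAC] at this
        exact this
      intro a ha
      rw [Subgroup.mem_center_iff]
      intro g
      exact (Subgroup.mem_centralizer_iff.1 (hC ▸ Subgroup.mem_top g : g ∈ C) a ha).symm
  -- the transfer to a Sylow 3-subgroup
  obtain ⟨P⟩ := (inferInstance : Nonempty (Sylow 3 M))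
  have hP : Nat.card (P : Subgroup M) = 9 := by
    rw [P.card_eq_multiplicity, hM]
    rw [show (180 : ℕ).factorization 3 = 2 by
      rw [show 180 = 3 ^ 2 * 20 by norm_num, Nat.factorization_mul_apply_of_coprime (by norm_num),
        Nat.prime_three.factorization_pow, Finsupp.single_eq_same,
        Nat.factorization_eq_zero_of_not_dvd (by norm_num)]]
    norm_num
  have hidx : (P : Subgroup M).index = 20 := by
    have := (P : Subgroup M).card_mul_index; rw [hP, hM] at this; omega
  have hAP : A ≤ (P : Subgroup M) := by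
    have hpA : IsPGroup 3 A := IsPGroup.of_card (n := 1) (by rw [hA, pow_one])
    have hsup : IsPGroup 3 (A ⊔ (P : Subgroup M) : Subgroup M) :=
      hpA.to_sup_of_normal_left P.isPGroup'
    exact le_trans le_sup_left (P.is_maximal' hsup le_sup_right).le
  letI : CommGroup (P : Subgroup M) := { (inferInstance : Group (P : Subgroup M)) with
    mul_comm := IsPGroup.commutative_of_card_eq_prime_sq (p := 3) (by rw [hP]; norm_num) }
  let tr : M →* (P : Subgroup M) := MonoidHom.transfer (MonoidHom.id (P : Subgroup M))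
  have htrA : ∀ a ∈ A, ((tr a : (P : Subgroup M)) : M) = a ^ 20 := by
    intro a ha
    have hcen : ∀ (k : ℕ) (g₀ : M), g₀⁻¹ * a ^ k * g₀ = a ^ k := fun k g₀ => by
      rw [mul_assoc, ← Subgroup.mem_center_iff.1 (hcent (pow_mem ha k)) g₀, inv_mul_cancel_left]
    simp only [tr]
    rw [MonoidHom.transfer_eq_pow _ _ fun k g₀ _ => hcen k g₀]
    simp [hidx]
  have hdis : tr.ker ⊓ A = ⊥ := by
    rw [eq_bot_iff]
    rintro a ⟨hak, haA⟩
    have h1 := htrA a haA
    rw [MonoidHom.mem_ker.1 hak, OneMemClass.coe_one] at h1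
    have h3 : a ^ 3 = 1 := by
      have := pow_card_eq_one' (G := A) (x := ⟨a, haA⟩)
      rw [hA] at this
      exact congrArg Subtype.val this
    rw [Subgroup.mem_bot]
    have : a ^ 21 = 1 := by rw [show 21 = 3 * 7 by norm_num, pow_mul, h3, one_pow]
    rw [pow_succ, ← h1, one_mul] at this
    exact this
  have hcardker : 20 ∣ Nat.card tr.ker := by 
    have h1 := tr.ker.card_mul_index
    rw [Subgroup.index_ker] at h1
    have h2 : Nat.card tr.range ∣ 9 := hP ▸ Subgroup.card_subgroup_dvd_card tr.range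
    obtain ⟨c, hc⟩ := h2
    refine ⟨c, Nat.eq_of_mul_eq_mul_right (Nat.card_pos (α := tr.range)) ?_⟩
    calc _ = 180 := h1.trans hM
      _ = _ := by rw [mul_assoc, mul_comm c, ← hc]; norm_num
  have hsup : tr.ker.map (QuotientGroup.mk' A) = ⊤ := by
    refine ((MonoidHom.normal_ker tr).map _ (QuotientGroup.mk'_surjective A)).eq_bot_or_eq_top.resolve_left
      fun h => ?_
    rw [Subgroup.map_eq_bot_iff, QuotientGroup.ker_mk'] at h
    rw [inf_eq_left.2 h] at hdis
    rw [hdis, Subgroup.card_bot] at hcardker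
    norm_num at hcardker
  let f : tr.ker →* M ⧸ A := (QuotientGroup.mk' A).comp tr.ker.subtype
  have hf : Function.Bijective f := by
    constructor
    · rw [injective_iff_map_eq_one]
      intro x hx
      have : (x : M) ∈ tr.ker ⊓ A := ⟨x.2, (QuotientGroup.eq_one_iff _).1 hx⟩
      rw [hdis, Subgroup.mem_bot] at this
      exact Subtype.ext this
    · intro y
      have hy : y ∈ tr.ker.map (QuotientGroup.mk' A) := hsup ▸ Subgroup.mem_top y
      obtain ⟨x, hx, rfl⟩ := hy
      exact ⟨⟨x, hx⟩, rfl⟩
  let e := MulEquiv.ofBijective f hf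
  haveI := e.isSimpleGroup
  have hcard : Nat.card tr.ker = 60 := (Nat.card_congr e.toEquiv).trans hq
  have hle : commutator M ≤ tr.ker := Abelianization.commutator_subset_ker tr
  have heq : commutator M = tr.ker := by
    haveI : (commutator M).Normal := by rw [commutator_def]; infer_instance
    rcases ((inferInstance : ((commutator M).subgroupOf tr.ker).Normal)).eq_bot_or_eq_top with h | h
    · exfalso
      rw [Subgroup.subgroupOf_eq_bot, disjoint_iff, inf_eq_left.2 hle] at h
      have hcomm : ∀ a b : M, a * b = b * a := fun a b => by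
        have h1 : ⁅a, b⁆ ∈ commutator M :=
          Subgroup.commutator_mem_commutator (Subgroup.mem_top a) (Subgroup.mem_top b)
        rw [h, Subgroup.mem_bot] at h1
        exact commutatorElement_eq_one_iff_mul_comm.1 h1
      letI : CommGroup tr.ker := { (inferInstance : Group tr.ker) with
        mul_comm := fun a b => Subtype.ext (hcomm a b) }
      have hp : (Nat.card tr.ker).Prime := IsSimpleGroup.prime_card
      rw [hcard] at hp
      norm_num at hp
    · exact le_antisymm hle (Subgroup.subgroupOf_eq_top.1 h)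
  exact ⟨tr.ker, heq ▸ inferInstance, inferInstance, hcard⟩

/-- A non-simple group of order 360 with a degree divisible by 10 has one divisible by 6. -/
theorem six_of_360 {G : Type u} [Group G] [Finite G] (hG : Nat.card G = 360)
    (hns : ¬ IsSimpleGroup G) (h10 : ∃ D ∈ charDegrees G, 2 * 5 ∣ D) :
    ∃ D ∈ charDegrees G, 2 * 3 ∣ D := by
  by_cases hsol : Group.IsSolvable G
  · exfalso
    obtain ⟨D, hD, h⟩ := h10
    refine not_mem_degreePrimes_of_normal_prime Nat.prime_five (by rw [hG]; norm_num)
      (exists_normal_prime Nat.prime_five (by rw [hG]; norm_num) (by rw [hG]; norm_num)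
        (by omega) (fun d hd hpp => (by decide +kernel : ∀ e ∈ Nat.divisors 360, IsPrimePow e → e % 5 ≠ 1) d
          (Nat.mem_divisors.2 ⟨hG ▸ hd, by norm_num⟩) hpp) (fun h => hns h.1) (Or.inl hsol))
      ⟨Nat.prime_five, D, hD, (dvd_mul_left 5 2).trans h⟩
  by_cases h60 : ∃ L : Subgroup G, L.Normal ∧ IsSimpleGroup L ∧ Nat.card L = 60
  · obtain ⟨L, hLn, hLs, hLc⟩ := h60
    haveI := hLn
    haveI := hLs
    exact six_of_normal_60 hG h10 L hLc
  -- it suffices to find a normal subgroup of order 3
  suffices hA : (∃ D ∈ charDegrees G, 2 * 3 ∣ D) ∨ ∃ A : Subgroup G, A.Normal ∧ Nat.card A = 3 by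
    rcases hA with h | ⟨A, hAn, hAc⟩
    · exact h
    haveI := hAn
    have hq : Nat.card (G ⧸ A) = 120 := by have := card_quotient_mul A; rw [hAc, hG] at this; omega
    have hqns : ¬ Group.IsSolvable (G ⧸ A) := fun h => by
      haveI := h
      haveI : IsCyclic A := isCyclic_of_prime_card (hp := ⟨Nat.prime_three⟩) hAc
      letI : CommGroup A := IsCyclic.commGroup
      exact hsol (Group.isSolvable_of_ker_le_range A.subtype (QuotientGroup.mk' A)
        (by rw [QuotientGroup.ker_mk', Subgroup.range_subtype]))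
    rcases six_or_normal_120 hq hqns with ⟨D, hD, h6⟩ | ⟨L, hLn, hLs, hLc⟩
    · exact ⟨D, charDegrees_quotient A hD, h6⟩
    exfalso
    haveI := hLn
    haveI := hLs
    set M := L.comap (QuotientGroup.mk' A) with hMdef
    haveI : M.Normal := Subgroup.Normal.comap hLn _
    have hAM : A ≤ M := fun x hx => by
      rw [hMdef, Subgroup.mem_comap, show QuotientGroup.mk' A x = 1 from (QuotientGroup.eq_one_iff x).2 hx]
      exact one_mem L
    let f : M →* L := ((QuotientGroup.mk' A).comp M.subtype).codRestrict L fun x => x.2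
    have hf : Function.Surjective f := fun y => by
      obtain ⟨x, hx⟩ := QuotientGroup.mk'_surjective A (y : G ⧸ A)
      exact ⟨⟨x, by rw [hMdef, Subgroup.mem_comap, hx]; exact y.2⟩, Subtype.ext hx⟩
    have hker : f.ker = A.subgroupOf M := by
      ext x
      rw [MonoidHom.mem_ker, Subgroup.mem_subgroupOf, ← OneMemClass.coe_eq_one]
      exact QuotientGroup.eq_one_iff _
    let e := (QuotientGroup.quotientMulEquivOfEq hker.symm).trans
      (QuotientGroup.quotientKerEquivOfSurjective f hf)
    haveI : IsSimpleGroup (M ⧸ A.subgroupOf M) := e.isSimpleGroup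
    have hA3 : Nat.card (A.subgroupOf M) = 3 := by
      rw [Nat.card_congr (Subgroup.subgroupOfEquivOfLe hAM).toEquiv, hAc]
    have hM : Nat.card M = 180 := by
      rw [← card_quotient_mul (A.subgroupOf M), Nat.card_congr e.toEquiv, hLc, hA3]
    obtain ⟨K, hKc, hKs, hK60⟩ := exists_simple_60_of_ext hM _ hA3
    haveI := hKc
    refine h60 ⟨K.map M.subtype, inferInstance, ?_, ?_⟩
    · exact (K.equivMapOfInjective _ M.subtype_injective).symm.isSimpleGroup
    · rw [Subgroup.card_map_of_injective M.subtype_injective, hK60]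
  -- a minimal normal subgroup
  haveI : Nontrivial G := Finite.one_lt_card_iff_nontrivial.1 (by omega)
  obtain ⟨M, -, hMn, hM1, hmin⟩ := SolvableStructure.exists_minimal_normal (G := G) (N := ⊤)
    inferInstance (by exact top_ne_bot)
  haveI := hMn
  have hMlt : Nat.card M < 360 := hG ▸ lt_of_le_of_ne (Subgroup.card_le_card_group M) fun e => by
    have htop := Subgroup.eq_top_of_card_eq _ e
    subst htop
    exact hns ⟨fun K hK => (hmin K hK le_top)⟩
  have hMsol : Group.IsSolvable M := by_contra fun h => by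
    obtain ⟨hs, hm⟩ := simple_of_minimal (by omega) (by rw [hG]; decide +kernel) M hM1 hmin h
    exact h60 ⟨M, hMn, hs, (by decide +kernel : ∀ n ∈ Nat.divisors 360, n < 360 → n ∈ orders → n = 60) _
      (Nat.mem_divisors.2 ⟨hG ▸ Subgroup.card_subgroup_dvd_card M, by norm_num⟩) hMlt hm⟩
  have hqns : ¬ Group.IsSolvable (G ⧸ M) := fun h => by
    haveI := h
    haveI := hMsol
    exact hsol (Group.isSolvable_of_ker_le_range M.subtype (QuotientGroup.mk' M)
      (by rw [QuotientGroup.ker_mk', Subgroup.range_subtype]))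
  have hmc := card_quotient_mul M
  rw [hG] at hmc
  haveI : Nontrivial M := (Subgroup.nontrivial_iff_ne_bot M).2 hM1
  have hM2 : 1 < Nat.card M := Finite.one_lt_card
  have hqmem := Nat.mem_divisors.2 ⟨(Dvd.intro _ hmc : Nat.card (G ⧸ M) ∣ 360), show (360 : ℕ) ≠ 0 by norm_num⟩
  have hqlt : Nat.card (G ⧸ M) < 360 := by nlinarith [Nat.card_pos (α := G ⧸ M)]
  have h60q : 60 ∣ Nat.card (G ⧸ M) := by
    by_contra h60'
    exact hqns (isSolvable_of_orders (by omega)
      (fun m hm hmd => absurd ((by decide +kernel :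
        ∀ n ∈ Nat.divisors 360, n < 360 → ∀ k ∈ orders, k ∣ n → 60 ∣ n) _ hqmem hqlt m hm hmd) h60')
      fun ⟨hs, hnc⟩ => h60' ((by decide +kernel : ∀ n ∈ Nat.divisors 360, n < 360 → n ∈ orders → 60 ∣ n) _
        hqmem hqlt (card_mem_orders (hnc) (by omega))))
  have hM6 : Nat.card M ∈ [2, 3, 6] := by
    obtain ⟨c, hc⟩ := h60q
    have h6 : Nat.card M ∣ 6 := Dvd.intro_left c (Nat.eq_of_mul_eq_mul_left (show 0 < 60 by norm_num)
      (by rw [← mul_assoc, ← hc, hmc]))
    exact (by decide +kernel : ∀ n ∈ Nat.divisors 6, 1 < n → n ∈ [2, 3, 6]) _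
      (Nat.mem_divisors.2 ⟨h6, by norm_num⟩) hM2
  simp only [List.mem_cons, List.not_mem_nil, or_false] at hM6
  haveI := hMsol
  rcases hM6 with h | h | h
  · -- order 2
    have hq : Nat.card (G ⧸ M) = 180 := by rw [h] at hmc; omega
    have hlift : ∀ R : Subgroup (G ⧸ M), R.Normal → Nat.card R = 3 →
        ∃ A : Subgroup G, A.Normal ∧ Nat.card A = 3 := fun R hR hRc =>
      exists_normal_prime_of_quotient M Nat.prime_three hM2 (by rw [h]; norm_num) (by omega)
        (by
          rw [h]
          intro d hd hpp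
          exact (by decide +kernel : ∀ e ∈ Nat.divisors 6, IsPrimePow e → e % 3 ≠ 1) d
            (Nat.mem_divisors.2 ⟨hd, by norm_num⟩) hpp)
        (Or.inr (by rw [h]; decide +kernel)) ⟨R, hR, hRc⟩
    haveI : Nontrivial (G ⧸ M) := Finite.one_lt_card_iff_nontrivial.1 (by omega)
    obtain ⟨T, -, hTn, hT1, hTmin⟩ := SolvableStructure.exists_minimal_normal (G := G ⧸ M) (N := ⊤)
      inferInstance (by exact top_ne_bot)
    haveI := hTn
    by_cases hTs : Group.IsSolvable T
    · right
      have hqq := card_quotient_mul T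
      rw [hq] at hqq
      have hTns : ¬ Group.IsSolvable ((G ⧸ M) ⧸ T) := fun h' => by
        haveI := h'
        haveI := hTs
        exact hqns (Group.isSolvable_of_ker_le_range T.subtype (QuotientGroup.mk' T)
          (by rw [QuotientGroup.ker_mk', Subgroup.range_subtype]))
      haveI : Nontrivial T := (Subgroup.nontrivial_iff_ne_bot T).2 hT1
      have hT2 : 1 < Nat.card T := Finite.one_lt_card
      have hm' := Nat.mem_divisors.2 ⟨(Dvd.intro _ hqq : Nat.card ((G ⧸ M) ⧸ T) ∣ 180),
        show (180 : ℕ) ≠ 0 by norm_num⟩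
      have hlt' : Nat.card ((G ⧸ M) ⧸ T) < 180 := by nlinarith [Nat.card_pos (α := (G ⧸ M) ⧸ T)]
      obtain ⟨hs, hnc⟩ := simple_of_not_isSolvable (by omega) hTns
        ((by decide +kernel : ∀ n ∈ Nat.divisors 180, n < 180 → ∀ k ∈ orders, k ∣ n → k = n) _ hm' hlt')
      haveI := hs
      have h3 : Nat.card T = 3 := by
        have := (by decide +kernel : ∀ n ∈ Nat.divisors 180, n < 180 → n ∈ orders → n = 60) _ hm' hlt'
          (card_mem_orders hnc (by omega))
        rw [this] at hqq; omega
      exact hlift T hTn h3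
    · obtain ⟨hs, hm⟩ := simple_of_minimal (by omega) (by rw [hq]; decide +kernel) T hT1 hTmin hTs
      haveI := hs
      have hT60 : Nat.card T = 60 := (by decide +kernel : ∀ n ∈ Nat.divisors 180, n ∈ orders → n = 60) _
        (Nat.mem_divisors.2 ⟨hq ▸ Subgroup.card_subgroup_dvd_card T, by norm_num⟩) hm
      rcases six_or_complement T hT60 with ⟨D, hD, h6⟩ | ⟨K, hK, -, hKc⟩
      · exact Or.inl ⟨D, charDegrees_quotient M hD, h6⟩
      · exact Or.inr (hlift K hK (by omega))
  · exact Or.inr ⟨M, hMn, h⟩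
  · exfalso
    obtain ⟨p, d, hp, hd, hcard, -, -⟩ := by
      refine (?_ : ∃ p d : ℕ, p.Prime ∧ 0 < d ∧ Nat.card M = p ^ d ∧ True ∧ True)
      obtain ⟨T, _, m, hT, hm, ⟨e⟩⟩ := AltGroups.exists_mulEquiv_pi_of_minimal_normal M hM1 hmin
      haveI : Finite T := Finite.of_surjective (fun x : M => e x ⟨0, hm⟩)
        (fun t => ⟨e.symm (fun _ => t), by simp⟩)
      haveI : Group.IsSolvable T := @Group.isSolvable_of_surjective _ _ _ _
        ((Pi.evalMonoidHom (fun _ : Fin m => T) ⟨0, hm⟩).comp e.toMonoidHom)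
        (fun t => ⟨e.symm (fun _ => t), by simp⟩) hMsol
      letI : CommGroup T := { (inferInstance : Group T) with
        mul_comm := IsSimpleGroup.comm_iff_isSolvable.2 inferInstance }
      exact ⟨Nat.card T, m, IsSimpleGroup.prime_card,
        hm, by rw [Nat.card_congr e.toEquiv, Nat.card_pi, Finset.prod_const, Finset.card_univ,
          Fintype.card_fin], trivial, trivial⟩
    rw [h] at hcard
    have h2 : p = 2 := (Nat.prime_dvd_prime_iff_eq Nat.prime_two hp).1
      (Nat.prime_two.dvd_of_dvd_pow (hcard ▸ by norm_num : 2 ∣ p ^ d)) |>.symm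
    have h3 : p = 3 := (Nat.prime_dvd_prime_iff_eq Nat.prime_three hp).1
      (Nat.prime_three.dvd_of_dvd_pow (hcard ▸ by norm_num : 3 ∣ p ^ d)) |>.symm
    omega

end CfsgLib.DegreeGraphSmall
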