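import Cfsg.Agent.Lib.DegreeGraphSmall.Centralize

/-!
A non-simple group of order 5616 has a normal subgroup of order 13 or an abelian normal Sylow
3-subgroup.
-/

set_option autoImplicit false
set_option linter.style.haveILetI false

namespace CfsgLib.DegreeGraphSmall

universe u

/-- The two outcomes. -/
def Good13 (G : Type u) [Group G] : Prop :=
  (∃ R : Subgroup G, R.Normal ∧ Nat.card R = 13) ∨
    ∃ T : Subgroup G, T.Normal ∧ Nat.card T = 27 ∧ ∀ a ∈ T, ∀ b ∈ T, a * b = b * a

/-- A good subgroup of a normal subgroup is normal in the group. -/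
theorem good_of_normal {G : Type u} [Group G] [Finite G] (hd : Nat.card G ∣ 5616) (C : Subgroup G)
    [C.Normal] (h : Good13 C) : Good13 G := by
  have hC : Nat.card C ∣ 5616 := (Subgroup.card_subgroup_dvd_card C).trans hd
  rcases h with hR | ⟨T, hT, hTc, hab⟩
  · exact Or.inl (exists_normal_prime_of_normal C (by norm_num)
      (fun h => absurd (h.trans hC) (by norm_num)) hR)
  · right
    haveI : Fact (Nat.Prime 3) := ⟨Nat.prime_three⟩
    have hP : IsPGroup 3 T := IsPGroup.of_card (n := 3) (by rw [hTc]; norm_num)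
    have hni : ¬ 3 ∣ T.index := fun h => by
      have h' := Nat.mul_dvd_mul_left 27 h
      rw [show 27 * T.index = Nat.card C by rw [← T.card_mul_index, hTc]] at h'
      exact absurd (h'.trans hC) (by norm_num)
    haveI : T.Characteristic := Sylow.characteristic_of_normal (hP.toSylow hni) hT
    refine ⟨T.map C.subtype, inferInstance, by rw [Subgroup.card_map_of_injective C.subtype_injective, hTc], ?_⟩
    rintro _ ⟨a, ha, rfl⟩ _ ⟨b, hb, rfl⟩
    exact congrArg Subtype.val (hab a ha b hb)

theorem good_of_card {G : Type u} [Group G] [Finite G] (hd : Nat.card G ∣ 5616)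
    (h13 : 13 ∣ Nat.card G) (hns : ¬ (IsSimpleGroup G ∧ ¬ IsMulCommutative G)) : Good13 G := by
  induction hn : Nat.card G using Nat.strong_induction_on generalizing G with
  | _ n ih =>
    subst hn
    have h6 : Nat.card G < 6000 := by have := Nat.le_of_dvd (by norm_num) hd; omega
    have hsmall : ∀ (X : Type u) [Group X] [Finite X], Nat.card X < Nat.card G → Nat.card X ∣ 5616 →
        ¬ (IsSimpleGroup X ∧ ¬ IsMulCommutative X) := fun X _ _ hlt hdX ⟨hs, hnc⟩ => by
      haveI := hs
      have := (by decide +kernel : ∀ o ∈ orders, o ∣ 5616 → o = 5616) _ (card_mem_orders hnc (by omega)) hdX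
      have := Nat.le_of_dvd (by norm_num) hd
      omega
    haveI : Group.IsSolvable G := isSolvable_of_orders h6 (fun m hm hmd => by
      have := (by decide +kernel : ∀ o ∈ orders, o ∣ 5616 → o = 5616) m hm (hmd.trans hd)
      have := Nat.le_of_dvd (by norm_num) hd
      have := Nat.le_of_dvd Nat.card_pos hmd
      omega) hns
    haveI : Nontrivial G := Finite.one_lt_card_iff_nontrivial.1
      (lt_of_lt_of_le (by norm_num) (Nat.le_of_dvd Nat.card_pos h13))
    obtain ⟨M, -, hMn, hM1, hmin⟩ := SolvableStructure.exists_minimal_normal (G := G) (N := ⊤)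
      inferInstance (by exact top_ne_bot)
    haveI := hMn
    haveI : Nontrivial M := (Subgroup.nontrivial_iff_ne_bot M).2 hM1
    have hM2 : 1 < Nat.card M := Finite.one_lt_card
    obtain ⟨hpow, hab⟩ := abelian_of_minimal M hM1 hmin inferInstance
    have hMd : Nat.card M ∣ 5616 := (Subgroup.card_subgroup_dvd_card M).trans hd
    have hcases := (by decide +kernel : ∀ m ∈ ([1, 2, 4, 8, 16, 3, 9, 27, 13] : List ℕ), m ≠ 1 →
      m = 13 ∨ m = 27 ∨ (¬ 13 ∣ m ∧ (∀ d ∈ Nat.divisors (13 * m), IsPrimePow d → d % 13 ≠ 1) ∧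
        (∀ o ∈ orders, ¬ o ∣ 13 * m) ∧ (m = 3 ∨ m = 9 ∨ ¬ 3 ∣ m))) (Nat.card M) (by
      obtain ⟨p, k, hp, hk, hpk⟩ := hpow
      have hp' : Nat.Prime p := hp.nat_prime
      have hpf : p ∈ Nat.primeFactors 5616 :=
        hp'.mem_primeFactors ((dvd_pow_self p hk.ne').trans (hpk ▸ hMd)) (by norm_num)
      rw [show Nat.primeFactors 5616 = {2, 3, 13} by
        rw [show 5616 = 2 ^ 4 * (3 ^ 3 * 13) by norm_num, Nat.primeFactors_mul (by norm_num) (by norm_num),
          Nat.primeFactors_mul (by norm_num) (by norm_num), Nat.primeFactors_prime_pow (by norm_num) Nat.prime_two,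
          Nat.primeFactors_prime_pow (by norm_num) Nat.prime_three, (by norm_num : Nat.Prime 13).primeFactors]
        decide] at hpf
      rw [← hpk] at hMd ⊢
      simp only [Finset.mem_insert, Finset.mem_singleton] at hpf
      rcases hpf with rfl | rfl | rfl
      · have : k ≤ 4 := by
          by_contra h
          exact absurd ((pow_dvd_pow 2 (show 5 ≤ k by omega)).trans hMd) (by norm_num)
        interval_cases k <;> decide
      · have : k ≤ 3 := by
          by_contra h
          exact absurd ((pow_dvd_pow 3 (show 4 ≤ k by omega)).trans hMd) (by norm_num)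
        interval_cases k <;> decide
      · have : k ≤ 1 := by
          by_contra h
          exact absurd ((pow_dvd_pow 13 (show 2 ≤ k by omega)).trans hMd) (by norm_num)
        interval_cases k; decide) hM2.ne'
    rcases hcases with h | h | ⟨h13M, hpp, hno, h3⟩
    · exact Or.inl ⟨M, hMn, h⟩
    · exact Or.inr ⟨M, hMn, h, hab⟩
    have hq := card_quotient_mul M
    have hqlt : Nat.card (G ⧸ M) < Nat.card G := by
      rw [← hq]; exact lt_mul_of_one_lt_right Nat.card_pos hM2
    have h13q : 13 ∣ Nat.card (G ⧸ M) :=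
      ((Nat.Prime.dvd_mul (by norm_num : Nat.Prime 13)).1 (hq ▸ h13)).resolve_right h13M
    have hpp' : ∀ d, d ∣ 13 * Nat.card M → IsPrimePow d → d % 13 ≠ 1 := fun d hdd =>
      hpp d (Nat.mem_divisors.2 ⟨hdd, by have := Nat.card_pos (α := M); omega⟩)
    rcases ih _ hqlt ((Subgroup.card_quotient_dvd_card M).trans hd) h13q
        (hsmall _ hqlt ((Subgroup.card_quotient_dvd_card M).trans hd)) rfl with hR | ⟨T, hT, hTc, hTab⟩
    · exact Or.inl (exists_normal_prime_of_quotient M (by norm_num) hM2 h13M h6 hpp'
        (Or.inr fun o ho _ => hno o ho) hR)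
    have h27 : 27 * Nat.card M ∣ 5616 := by
      refine dvd_trans ?_ hd
      rw [← hq, ← hTc]
      exact Nat.mul_dvd_mul_right (Subgroup.card_subgroup_dvd_card T) _
    have h3M : ¬ 3 ∣ Nat.card M := by
      rcases h3 with h | h | h
      · rw [h] at h27; norm_num at h27
      · rw [h] at h27; norm_num at h27
      · exact h
    haveI : Fact (Nat.Prime 13) := ⟨by norm_num⟩
    obtain ⟨x, hx⟩ := exists_prime_orderOf_dvd_card' (G := G) 13 h13
    set C := Subgroup.centralizer (M : Set G) with hC
    haveI : C.Normal := by simp only [hC]; infer_instance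
    have hxC : x ∈ C :=
      Subgroup.mem_centralizer_iff.2 (commute_of_prime_outside M (by norm_num) h13M hx hpp')
    by_cases hCtop : C = ⊤
    · -- M is central: the preimage of T has a normal Sylow 3-subgroup
      haveI := hT
      set K := T.comap (QuotientGroup.mk' M) with hK
      haveI : K.Normal := Subgroup.Normal.comap hT _
      refine good_of_normal hd K (Or.inr ?_)
      have hMK : M ≤ K := fun y hy => by
        rw [hK, Subgroup.mem_comap, show QuotientGroup.mk' M y = 1 from (QuotientGroup.eq_one_iff y).2 hy]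
        exact one_mem T
      have hKc : Nat.card K = 27 * Nat.card M := by
        refine Nat.eq_of_mul_eq_mul_right (Nat.pos_of_ne_zero (Subgroup.index_ne_zero_of_finite (H := K))) ?_
        rw [K.card_mul_index, hK, T.index_comap_of_surjective (QuotientGroup.mk'_surjective M), ← hq,
          ← T.card_mul_index, hTc]
        ring
      haveI : Fact (Nat.Prime 3) := ⟨Nat.prime_three⟩
      obtain ⟨P⟩ := (inferInstance : Nonempty (Sylow 3 K))
      have hP : Nat.card (P : Subgroup K) = 27 := by
        obtain ⟨j, hj⟩ := IsPGroup.iff_card.1 P.isPGroup'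
        have hni := P.not_dvd_index
        have hmul := (P : Subgroup K).card_mul_index
        rw [hj, hKc] at hmul
        have h1 : 3 ^ j ∣ 27 := by
          refine ((Nat.prime_three.coprime_iff_not_dvd.2 h3M).pow_left j).dvd_of_dvd_mul_right ?_
          exact ⟨_, hmul.symm⟩
        have h2 : 27 ∣ 3 ^ j := by
          refine ((Nat.prime_three.coprime_iff_not_dvd.2 hni).pow_left 3).dvd_of_dvd_mul_right ?_
          exact ⟨Nat.card M, hmul⟩
        rw [hj]; exact Nat.dvd_antisymm h1 h2
      -- M together with P is the whole of K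
      have hsup : (P : Subgroup K) ⊔ M.subgroupOf K = ⊤ := by
        refine Subgroup.eq_top_of_card_eq _ (Nat.dvd_antisymm (Subgroup.card_subgroup_dvd_card _) ?_)
        rw [hKc]
        exact ((Nat.prime_three.coprime_iff_not_dvd.2 h3M).pow_left 3).mul_dvd_of_dvd_of_dvd
          ((dvd_of_eq (hP.trans (by norm_num)).symm).trans (Subgroup.card_dvd_of_le le_sup_left))
          ((Nat.card_congr (Subgroup.subgroupOfEquivOfLe hMK).toEquiv) ▸ Subgroup.card_dvd_of_le le_sup_right)
      have hnorm : (P : Subgroup K).Normal := by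
        rw [← Subgroup.normalizer_eq_top_iff, eq_top_iff, ← hsup, sup_le_iff]
        refine ⟨Subgroup.le_normalizer, fun m hm => Subgroup.mem_normalizer_iff.2 fun n => ?_⟩
        have hc : m * n = n * m := Subtype.ext ((Subgroup.mem_centralizer_iff.1
          (hCtop ▸ Subgroup.mem_top (n : G) : (n : G) ∈ C)) _ (Subgroup.mem_subgroupOf.1 hm))
        rw [show m * n * m⁻¹ = n by rw [hc, mul_inv_cancel_right]]
      refine ⟨P, hnorm, hP, fun a ha b hb => ?_⟩
      have hab' : (QuotientGroup.mk' M) ((a : G) * b) = (QuotientGroup.mk' M) ((b : G) * a) := by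
        rw [map_mul, map_mul]; exact hTab _ a.2 _ b.2
      have hmem : ((b : G) * a)⁻¹ * ((a : G) * b) ∈ M := QuotientGroup.eq.1 hab'.symm
      have hPmem : (b * a)⁻¹ * (a * b) ∈ (P : Subgroup K) :=
        mul_mem (inv_mem (mul_mem hb ha)) (mul_mem ha hb)
      have : (b * a)⁻¹ * (a * b) = 1 := by
        rw [← orderOf_eq_one_iff]
        refine Nat.eq_one_of_dvd_coprimes ((Nat.prime_three.coprime_iff_not_dvd.2 h3M).pow_left 3)
          ((Subgroup.orderOf_dvd_natCard _ hPmem).trans (dvd_of_eq (hP.trans (by norm_num)))) ?_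
        rw [← Subgroup.orderOf_coe]
        exact Subgroup.orderOf_dvd_natCard _ hmem
      exact (inv_mul_eq_one.1 this).symm
    · have hClt : Nat.card C < Nat.card G := lt_of_le_of_ne (Subgroup.card_le_card_group C) fun e =>
        hCtop (Subgroup.eq_top_of_card_eq _ e)
      exact good_of_normal hd C (ih _ hClt ((Subgroup.card_subgroup_dvd_card C).trans hd)
        (hx ▸ Subgroup.orderOf_dvd_natCard _ hxC)
        (hsmall _ hClt ((Subgroup.card_subgroup_dvd_card C).trans hd)) rfl)

end CfsgLib.DegreeGraphSmall
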