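import Cfsg.Agent.Lib.DegreeGraphSmall.Basic
import Cfsg.Agent.S4774
import Cfsg.Agent.S4811
import Cfsg.Agent.S0495

/-!
Non-solvable sections of non-simple groups, and the order 504.
-/

set_option autoImplicit false

namespace CfsgLib.DegreeGraphSmall

open Cfsg

universe u

/-- A non-solvable group with at most one listed divisor of its order has that order. -/
theorem simple_of_not_isSolvable {G : Type u} [Group G] [Finite G] (h6 : Nat.card G < 6000)
    (hns : ¬ Group.IsSolvable G) (hlist : ∀ m ∈ orders, m ∣ Nat.card G → m = Nat.card G) :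
    IsSimpleGroup G ∧ ¬ IsMulCommutative G := by
  by_contra h
  exact hns (isSolvable_of_orders h6 hlist h)

/-- A non-solvable non-simple group has a non-solvable proper normal subgroup or quotient. -/
theorem exists_section {G : Type u} [Group G] [Finite G] [Nontrivial G]
    (hns : ¬ IsSimpleGroup G) (h : ¬ Group.IsSolvable G) :
    ∃ N : Subgroup G, N.Normal ∧ 1 < Nat.card N ∧ Nat.card N < Nat.card G ∧
      (¬ Group.IsSolvable N ∨ ∀ hN : N.Normal, ¬ Group.IsSolvable (G ⧸ N)) := by
  obtain ⟨N, hN, h1, h2⟩ := exists_normal_lt hns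
  refine ⟨N, hN, h1, h2, or_iff_not_imp_left.2 fun hN' hN'' hQ => h ?_⟩
  rw [not_not] at hN'
  haveI := hN'; haveI := hQ
  exact Group.isSolvable_of_ker_le_range N.subtype (QuotientGroup.mk' N)
    (by rw [QuotientGroup.ker_mk', Subgroup.range_subtype])

/-- A simple group of order 168 has a degree divisible by 6. -/
theorem exists_six_dvd_168 {X : Type u} [Group X] [Finite X] [IsSimpleGroup X]
    (h : Nat.card X = 168) : ∃ d ∈ charDegrees X, 2 * 3 ∣ d := by
  haveI : Fact (Nat.Prime 7) := ⟨by norm_num⟩
  have hS := Cfsg.Agent.S4774.result (ZMod 7) 7 (by norm_num) 7 (ZMod.card 7) (by norm_num)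
    (Or.inl (Cfsg.Agent.S0495.result h (ZMod.card 7)))
  exact ((hS.2 2 3).2 ⟨by norm_num, Nat.prime_two, Nat.prime_three, by norm_num, by norm_num,
    Or.inl rfl⟩).2.2.2

/-- A non-simple group of order 504 does not have three isolated vertices 2, 3, 7. -/
theorem false_504 {G : Type u} [Group G] [Finite G] (hn : Nat.card G = 504)
    (hns : ¬ IsSimpleGroup G) (h2 : 2 ∈ degreePrimes G) (h3 : 3 ∈ degreePrimes G)
    (h7 : 7 ∈ degreePrimes G) (h23 : ¬ (degreeGraph G).Adj 2 3) (h27 : ¬ (degreeGraph G).Adj 2 7)
    (h37 : ¬ (degreeGraph G).Adj 3 7) : False := by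
  classical
  haveI : Nontrivial G := Finite.one_lt_card_iff_nontrivial.1 (by omega)
  by_cases hsol : Group.IsSolvable G
  · have hsub : degreePrimes G ⊆ {2, 3, 7} := by
      rintro p ⟨hp, d, ⟨χ, rfl⟩, hpd⟩
      have hd : charDegree (χ : G → ℂ) ∣ 504 := by
        obtain ⟨d', hd', hdvd⟩ := CharTheory.exists_degree_dvd_index_of_abelian χ.2 (⊥ : Subgroup G)
          (fun a ha b hb => by rw [Subgroup.mem_bot.1 ha, Subgroup.mem_bot.1 hb])
        rw [Subgroup.index_bot, hn] at hdvd
        rw [show charDegree (χ : G → ℂ) = d' by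
          unfold charDegree; rw [hd', Complex.natCast_re, Nat.floor_natCast]]
        exact hdvd
      have hm : p ∈ Nat.primeFactors 504 := hp.mem_primeFactors (hpd.trans hd) (by norm_num)
      rw [show Nat.primeFactors 504 = {2, 3, 7} by decide +kernel] at hm
      simpa using hm
    have hiso : ∀ a b : degreePrimes G, ((degreeGraph G).induce (degreePrimes G)).Reachable a b → a = b := by
      intro a b hab
      obtain ⟨w⟩ := hab
      cases w with
      | nil => rfl
      | @cons _ c _ hadj _ =>
        exfalso
        have ha := hsub a.2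
        have hc := hsub c.2
        have hadj' : (degreeGraph G).Adj (a : ℕ) (c : ℕ) := hadj
        simp only [Set.mem_insert_iff, Set.mem_singleton_iff] at ha hc
        rcases ha with ha | ha | ha <;> rcases hc with hc | hc | hc <;> rw [ha, hc] at hadj'
        · exact hadj'.1 rfl
        · exact h23 hadj'
        · exact h27 hadj'
        · exact h23 hadj'.symm
        · exact hadj'.1 rfl
        · exact h37 hadj'
        · exact h27 hadj'.symm
        · exact h37 hadj'.symm
        · exact hadj'.1 rfl
    haveI := hsol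
    have hle := Cfsg.Agent.S4811.result (G := G)
    set Γ := (degreeGraph G).induce (degreePrimes G)
    have hinj : Function.Injective Γ.connectedComponentMk := fun a b h =>
      hiso a b (SimpleGraph.ConnectedComponent.exact h)
    haveI : Finite (degreePrimes G) := Set.Finite.to_subtype ((Set.toFinite {2, 3, 7}).subset hsub)
    haveI : Finite Γ.ConnectedComponent := Finite.of_surjective _ Quot.mk_surjective
    have hcard := (Nat.card_le_card_of_injective _ hinj).trans hle
    have h3' : ({2, 3, 7} : Set ℕ) ⊆ degreePrimes G := by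
      rintro x (rfl | rfl | rfl) <;> assumption
    have := Nat.card_mono ((Set.toFinite {2, 3, 7}).subset hsub) h3'
    rw [show Nat.card ({2, 3, 7} : Set ℕ) = 3 by simp] at this
    omega
  · obtain ⟨N, hN, h1, hlt, hX⟩ := exists_section hns hsol
    have hlist : ∀ (X : Type u) [Group X] [Finite X], Nat.card X ∣ 504 → Nat.card X < 504 →
        ¬ Group.IsSolvable X → Nat.card X = 168 ∧ IsSimpleGroup X := by
      intro X _ _ hd hlt' hX'
      have hcase : ∀ n ∈ Nat.divisors 504, n < 504 → ∀ m ∈ orders, m ∣ n → m = n := by decide +kernel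
      have hmem := Nat.mem_divisors.2 ⟨hd, by norm_num⟩
      obtain ⟨hs, hnc⟩ := simple_of_not_isSolvable (by omega) hX' (hcase _ hmem hlt')
      haveI := hs
      refine ⟨?_, hs⟩
      exact (by decide +kernel : ∀ n ∈ Nat.divisors 504, n < 504 → n ∈ orders → n = 168) _ hmem hlt'
        (card_mem_orders hnc (by omega))
    have hsix : ∃ D ∈ charDegrees G, 2 * 3 ∣ D := by
      rcases hX with hX | hX
      · obtain ⟨hc, hs⟩ := hlist N (hn ▸ Subgroup.card_subgroup_dvd_card N) (hn ▸ hlt) hX
        haveI := hs
        obtain ⟨d, hd, h6⟩ := exists_six_dvd_168 hc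
        obtain ⟨D, hD, hdD⟩ := exists_dvd_charDegrees_of_normal N hd
        exact ⟨D, hD, h6.trans hdD⟩
      · have hq := card_quotient_mul N
        obtain ⟨hc, hs⟩ := hlist (G ⧸ N) (hn ▸ Subgroup.card_quotient_dvd_card N)
          (by rw [← hn, ← hq]; exact lt_mul_of_one_lt_right Nat.card_pos h1) (hX hN)
        haveI := hs
        obtain ⟨d, hd, h6⟩ := exists_six_dvd_168 hc
        exact ⟨d, charDegrees_quotient N hd, h6⟩
    exact h23 ⟨by norm_num, Nat.prime_two, Nat.prime_three, hsix⟩

end CfsgLib.DegreeGraphSmall
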