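import Cfsg.Agent.Lib.DegreeGraphSmall.Counting
import Cfsg.Agent.Lib.DegreeGraphSmall.Sections
import Cfsg.Agent.Lib.J1Order.Alt5
import Cfsg.Agent.Lib.Frobenius.SmallQuotientFacts
import Cfsg.Agent.Lib.ClassicalLinear.ProjLine
import Cfsg.Agent.Lib.PSLKleinAut.Basic
import Cfsg.Agent.Lib.Components2.SylowCount
import Cfsg.Agent.S4812
import Cfsg.Agent.S0494

/-!
Groups with a section of order 60: a degree divisible by three, the degree six of the symmetric
group of degree five, and the splitting over a normal simple subgroup of order 60.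
-/

set_option autoImplicit false
set_option linter.style.haveILetI false
set_option maxRecDepth 100000

namespace CfsgLib.DegreeGraphSmall

open Cfsg CfsgLib.CharTheory Finset
open scoped ComplexConjugate

universe u

/-- A simple group of order 60 has a degree divisible by three. -/
theorem exists_three_dvd_60 {X : Type u} [Group X] [Finite X] [IsSimpleGroup X]
    (h : Nat.card X = 60) : ∃ d ∈ charDegrees X, 3 ∣ d := by
  haveI : Fact (Nat.Prime 2) := ⟨Nat.prime_two⟩
  haveI := Fintype.ofFinite (GaloisField 2 2)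
  have hF : Fintype.card (GaloisField 2 2) = 4 := by
    rw [← Nat.card_eq_fintype_card, GaloisField.card 2 2 (by norm_num)]; norm_num
  haveI : IsSimpleGroup (Matrix.ProjectiveSpecialLinearGroup (Fin 2) (GaloisField 2 2)) :=
    CfsgLib.PSLKleinAut.isSimpleGroup_psl2 (by rw [hF]; norm_num)
  obtain ⟨e⟩ := Cfsg.Agent.S0494.result (G := Matrix.ProjectiveSpecialLinearGroup (Fin 2) (GaloisField 2 2))
    (CfsgLib.ClassicalLinear.card_PSL_two_card_four hF)
  obtain ⟨f⟩ := Cfsg.Agent.S0494.result h
  have hv := (Cfsg.Agent.S4812.result (GaloisField 2 2) 4 hF le_rfl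
    (Or.inl ⟨f.trans e.symm⟩)).1
  have h3 : (3 : ℕ) ∈ degreePrimes X := by
    rw [hv]; exact ⟨Nat.prime_three, by norm_num⟩
  exact h3.2

/-- The number of fixed points less one on five points. -/
def std5 (x : Equiv.Perm (Fin 5)) : ℤ := (univ.filter fun i : Fin 5 => x i = i).card - 1

/-- The exterior square of the standard character. -/
def six (x : Equiv.Perm (Fin 5)) : ℤ := (std5 x ^ 2 - std5 (x * x)) / 2

theorem six_even : ∀ x : Equiv.Perm (Fin 5), (std5 x ^ 2 - std5 (x * x)) % 2 = 0 := by
  decide +kernel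

theorem six_sq : ∑ x : Equiv.Perm (Fin 5), six x * six x = 120 := by
  decide +kernel

/-- The symmetric group of degree five has an irreducible character of degree six. -/
theorem six_mem_charDegrees_perm : 6 ∈ charDegrees (Equiv.Perm (Fin 5)) := by
  classical
  have hπ := isCharacter_card_fixedBy (G := Equiv.Perm (Fin 5)) (Fin 5)
  set π := fun x : Equiv.Perm (Fin 5) => (Nat.card (MulAction.fixedBy (Fin 5) x) : ℂ) with hπdef
  have e : ∀ x, π x = (std5 x : ℂ) + 1 := fun x => by
    have : Nat.card (MulAction.fixedBy (Fin 5) x) =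
        (univ.filter fun i : Fin 5 => x i = i).card := by
      rw [Nat.card_eq_fintype_card, Fintype.card_subtype]
      exact congrArg Finset.card (Finset.filter_congr fun i _ => Iff.rfl)
    simp [hπdef, this, std5]
  have hsix : ∀ x, (six x : ℂ) = (((std5 x : ℂ)) ^ 2 - (std5 (x * x) : ℂ)) / 2 := fun x => by
    obtain ⟨k, hk⟩ := Int.dvd_of_emod_eq_zero (six_even x)
    have e1 : six x = k := by simp [six, hk]
    have e2 := congrArg (Int.cast (R := ℂ)) hk
    push_cast at e2
    rw [e1, e2]; ring
  have hgen : IsGeneralizedCharacter (Equiv.Perm (Fin 5)) fun x => (six x : ℂ) := by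
    refine ⟨_, _, Coherence.isCharacter_add (ExteriorSquare.isCharacter_extSquare hπ)
      (IsIrrCharacter.isCharacter isIrrCharacter_one), hπ, ?_⟩
    funext x
    simp only [Pi.sub_apply, Pi.add_apply, hsix, e]
    ring
  have hnorm : classInner (fun x : Equiv.Perm (Fin 5) => (six x : ℂ)) (fun x => (six x : ℂ)) = 1 := by
    rw [classInner]
    simp only [map_intCast]
    rw [CfsgLib.ComplementQuotient.card_perm_fin_five]
    rw [show ∑ x : Equiv.Perm (Fin 5), (six x : ℂ) * (six x : ℂ) = ((120 : ℤ) : ℂ) by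
      rw [← six_sq]; push_cast; rfl]
    norm_num
  have h1 : six 1 = 6 := by decide +kernel
  have hirr := isIrrCharacter_of_norm_one hgen hnorm (by simp [h1])
  refine ⟨⟨_, hirr⟩, ?_⟩
  show charDegree (fun x : Equiv.Perm (Fin 5) => (six x : ℂ)) = 6
  unfold charDegree
  beta_reduce
  rw [h1]
  norm_num

/-- Over a normal simple subgroup of order 60: a degree divisible by six, or a complementary normal
subgroup. -/
theorem six_or_complement {H : Type u} [Group H] [Finite H] (L : Subgroup H) [L.Normal]
    [IsSimpleGroup L] (hL : Nat.card L = 60) :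
    (∃ D ∈ charDegrees H, 2 * 3 ∣ D) ∨
      ∃ K : Subgroup H, K.Normal ∧ Disjoint L K ∧ 60 * Nat.card K = Nat.card H := by
  classical
  haveI : Fact (Nat.Prime 2) := ⟨Nat.prime_two⟩
  obtain ⟨f⟩ := Cfsg.Agent.S0494.result hL
  have h5 : Nat.card (Sylow 2 L) = 5 := by
    rw [← CfsgLib.ComplementQuotient.card_sylow_two_alternating_five]
    exact CfsgLib.Components2.card_sylow_congr f
  let ψ : H →* Equiv.Perm (Sylow 2 L) :=
    (MulAction.toPermHom (MulAut L) (Sylow 2 L)).comp MulAut.conjNormal
  haveI : ψ.ker.Normal := MonoidHom.normal_ker _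
  have hdis : Disjoint L ψ.ker := by
    rw [disjoint_iff]
    rcases (inferInstance : (ψ.ker.subgroupOf L).Normal).eq_bot_or_eq_top with hb | ht
    · rw [Subgroup.subgroupOf_eq_bot, disjoint_iff, inf_comm] at hb
      exact hb
    · exfalso
      obtain ⟨P⟩ := (inferInstance : Nonempty (Sylow 2 L))
      haveI : Subsingleton (Sylow 2 L) := ⟨fun P Q => by
        obtain ⟨l, hl⟩ := MulAction.exists_smul_eq L P Q
        have hk : (l : H) ∈ ψ.ker := Subgroup.subgroupOf_eq_top.1 ht l.2
        have := congrArg (fun σ : Equiv.Perm (Sylow 2 L) => σ P) hk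
        simp only [ψ, MonoidHom.comp_apply, MulAction.toPermHom_apply, MulAction.toPerm_apply,
          Equiv.Perm.coe_one, id_eq] at this
        rw [← hl, Sylow.smul_def, ← MulAut.conjNormal_val]
        exact this.symm⟩
      have := Nat.card_unique (α := Sylow 2 L)
      omega
  have hperm : Nat.card (Equiv.Perm (Sylow 2 L)) = 120 := by
    rw [Nat.card_perm, h5]; rfl
  have hr : Nat.card ψ.range ∣ 120 := hperm ▸ Subgroup.card_subgroup_dvd_card _
  have hL' : 60 ∣ Nat.card ψ.range := by
    refine hL ▸ ?_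
    have hinj : Function.Injective (ψ.rangeRestrict.comp L.subtype) := by
      rw [injective_iff_map_eq_one]
      intro x hx
      have : (x : H) ∈ L ⊓ ψ.ker := ⟨x.2, congrArg Subtype.val hx⟩
      rw [disjoint_iff.1 hdis, Subgroup.mem_bot] at this
      exact Subtype.ext this
    exact Subgroup.card_dvd_of_injective _ hinj
  have hidx : ψ.ker.index = Nat.card ψ.range := Subgroup.index_ker ψ
  have hmul := ψ.ker.card_mul_index
  have hcases : Nat.card ψ.range = 60 ∨ Nat.card ψ.range = 120 := by
    obtain ⟨k, hk⟩ := hL'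
    have := Nat.le_of_dvd (by norm_num) hr
    have := Nat.card_pos (α := ψ.range)
    omega
  rcases hcases with h | h
  · refine Or.inr ⟨ψ.ker, inferInstance, hdis, ?_⟩
    rw [hidx, h] at hmul
    omega
  · left
    have htop : ψ.range = ⊤ := Subgroup.eq_top_of_card_eq _ (h.trans hperm.symm)
    obtain ⟨e⟩ := (Finite.card_eq.1 (h5.trans (Nat.card_fin 5).symm) : Nonempty (Sylow 2 L ≃ Fin 5))
    let σ : H →* Equiv.Perm (Fin 5) := e.permCongrHom.toMonoidHom.comp ψ
    have hsurj : Function.Surjective σ :=
      e.permCongrHom.surjective.comp (MonoidHom.range_eq_top.1 htop)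
    obtain ⟨χ, hχ⟩ := six_mem_charDegrees_perm
    refine ⟨6, ⟨⟨_, isIrrCharacter_comp χ.2 hsurj⟩, ?_⟩, by norm_num⟩
    rw [← hχ]
    unfold charDegree
    simp

end CfsgLib.DegreeGraphSmall
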