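import Cfsg.Agent.Lib.DegreeGraphSmall.Counting
import Cfsg.Agent.Lib.DegreeGraphSmall.Sixty
import Cfsg.Agent.Lib.ClassicalLinear.Card
import Cfsg.Agent.S0497
import Cfsg.Agent.S0498
import Cfsg.Agent.S1011
import Cfsg.Agent.S1020
import Cfsg.Agent.S0984
import Cfsg.Agent.S1021
import Cfsg.Agent.S0981
import Cfsg.Agent.S0254
import Mathlib.GroupTheory.Perm.Centralizer

/-!
The vertices and edges of the degree graphs of the small simple groups that are needed to
recognise them.
-/

set_option autoImplicit false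
set_option linter.style.haveILetI false
set_option maxRecDepth 100000

namespace CfsgLib.DegreeGraphSmall

open Cfsg

universe u

variable {S : Type u} [Group S] [Finite S] [IsSimpleGroup S]

theorem five_60 (h : Nat.card S = 60) : 5 ∈ degreePrimes S := by
  haveI : Fact (Nat.Prime 2) := ⟨Nat.prime_two⟩
  haveI := Fintype.ofFinite (GaloisField 2 2)
  have hF : Fintype.card (GaloisField 2 2) = 4 := by
    rw [← Nat.card_eq_fintype_card, GaloisField.card 2 2 (by norm_num)]; norm_num
  haveI : IsSimpleGroup (Matrix.ProjectiveSpecialLinearGroup (Fin 2) (GaloisField 2 2)) :=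
    CfsgLib.PSLKleinAut.isSimpleGroup_psl2 (by rw [hF]; norm_num)
  obtain ⟨e⟩ := Cfsg.Agent.S0494.result (G := Matrix.ProjectiveSpecialLinearGroup (Fin 2) (GaloisField 2 2))
    (CfsgLib.ClassicalLinear.card_PSL_two_card_four hF)
  obtain ⟨f⟩ := Cfsg.Agent.S0494.result h
  rw [(Cfsg.Agent.S4812.result (GaloisField 2 2) 4 hF le_rfl (Or.inl ⟨f.trans e.symm⟩)).1]
  exact ⟨Nat.prime_five, by norm_num⟩

theorem vertices_168 (h : Nat.card S = 168) :
    2 ∈ degreePrimes S ∧ 3 ∈ degreePrimes S ∧ 7 ∈ degreePrimes S := by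
  haveI : Fact (Nat.Prime 7) := ⟨by norm_num⟩
  rw [(Cfsg.Agent.S4774.result (ZMod 7) 7 (by norm_num) 7 (ZMod.card 7) (by norm_num)
    (Or.inl (Cfsg.Agent.S0495.result h (ZMod.card 7)))).1]
  exact ⟨⟨Nat.prime_two, by norm_num⟩, ⟨Nat.prime_three, by norm_num⟩, ⟨by norm_num, by norm_num⟩⟩

theorem graph_360 (h : Nat.card S = 360) :
    (degreeGraph S).Adj 2 5 ∧ ¬ (degreeGraph S).Adj 2 3 := by
  haveI : Fact (Nat.Prime 3) := ⟨Nat.prime_three⟩
  haveI := Fintype.ofFinite (GaloisField 3 2)
  have hF : Fintype.card (GaloisField 3 2) = 9 := by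
    rw [← Nat.card_eq_fintype_card, GaloisField.card 3 2 (by norm_num)]; norm_num
  obtain ⟨e⟩ := Cfsg.Agent.S0254.result hF
  obtain ⟨f⟩ := Cfsg.Agent.S0497.result h
  have hS := (Cfsg.Agent.S4774.result (GaloisField 3 2) 3 (by norm_num) 9 hF (by norm_num)
    (Or.inl ⟨f.trans e.symm⟩)).2
  rw [hS, hS]
  norm_num

theorem graph_504 (h : Nat.card S = 504) :
    (2 ∈ degreePrimes S ∧ 3 ∈ degreePrimes S ∧ 7 ∈ degreePrimes S) ∧
    ¬ (degreeGraph S).Adj 2 3 ∧ ¬ (degreeGraph S).Adj 2 7 ∧ ¬ (degreeGraph S).Adj 3 7 := by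
  haveI : Fact (Nat.Prime 2) := ⟨Nat.prime_two⟩
  haveI := Fintype.ofFinite (GaloisField 2 3)
  have hF : Fintype.card (GaloisField 2 3) = 8 := by
    rw [← Nat.card_eq_fintype_card, GaloisField.card 2 3 (by norm_num)]; norm_num
  have hS := Cfsg.Agent.S4812.result (GaloisField 2 3) 8 hF (by norm_num)
    (Or.inl (Cfsg.Agent.S1011.result h hF))
  rw [hS.1, hS.2, hS.2, hS.2]
  refine ⟨⟨⟨Nat.prime_two, by norm_num⟩, ⟨Nat.prime_three, by norm_num⟩, ⟨by norm_num, by norm_num⟩⟩, ?_⟩
  norm_num

theorem vertex_psl_prime {p n : ℕ} [Fact p.Prime] (h5 : 5 < p)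
    (hiso : Nat.card S = n → Nonempty (S ≃* Matrix.ProjectiveSpecialLinearGroup (Fin 2) (ZMod p)))
    (h : Nat.card S = n) : p ∈ degreePrimes S := by
  rw [(Cfsg.Agent.S4774.result (ZMod p) p (by omega) p (ZMod.card p) h5 (Or.inl (hiso h))).1]
  exact ⟨Fact.out, dvd_mul_right _ _⟩

theorem vertex_660 (h : Nat.card S = 660) : 11 ∈ degreePrimes S :=
  haveI : Fact (Nat.Prime 11) := ⟨by norm_num⟩
  vertex_psl_prime (by norm_num) (fun h' => Cfsg.Agent.S0498.result 11 (Or.inl rfl) (by rw [h']; norm_num) (ZMod.card 11)) h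

theorem vertex_1092 (h : Nat.card S = 1092) : 13 ∈ degreePrimes S :=
  haveI : Fact (Nat.Prime 13) := ⟨by norm_num⟩
  vertex_psl_prime (by norm_num) (fun h' => Cfsg.Agent.S0498.result 13 (Or.inr rfl) (by rw [h']; norm_num) (ZMod.card 13)) h

theorem vertex_2448 (h : Nat.card S = 2448) : 17 ∈ degreePrimes S :=
  haveI : Fact (Nat.Prime 17) := ⟨by norm_num⟩
  vertex_psl_prime (by norm_num) (fun h' => Cfsg.Agent.S1020.result h' (ZMod.card 17)) h

theorem vertex_3420 (h : Nat.card S = 3420) : 19 ∈ degreePrimes S :=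
  haveI : Fact (Nat.Prime 19) := ⟨by norm_num⟩
  vertex_psl_prime (by norm_num) (fun h' => Cfsg.Agent.S1021.result h' (ZMod.card 19)) h

theorem vertex_4080 (h : Nat.card S = 4080) : 17 ∈ degreePrimes S := by
  haveI : Fact (Nat.Prime 2) := ⟨Nat.prime_two⟩
  haveI := Fintype.ofFinite (GaloisField 2 4)
  have hF : Fintype.card (GaloisField 2 4) = 16 := by
    rw [← Nat.card_eq_fintype_card, GaloisField.card 2 4 (by norm_num)]; norm_num
  rw [(Cfsg.Agent.S4812.result (GaloisField 2 4) 16 hF (by norm_num)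
    (Or.inl (Cfsg.Agent.S0981.result h hF))).1]
  exact ⟨by norm_num, by norm_num⟩

omit [IsSimpleGroup S] in
/-- More classes than the centraliser of an element of order `p` give a degree divisible by `p`. -/
theorem mem_degreePrimes_of_centralizer {p : ℕ} (hp : p.Prime) {g : S} (hg : orderOf g = p)
    (hlt : Nat.card (Subgroup.centralizer ({g} : Set S)) < Nat.card (ConjClasses S)) :
    p ∈ degreePrimes S := by
  classical
  haveI := Fintype.ofFinite (IrrCharacter S)
  by_contra hno
  have h := sum_weight_le hp hg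
  have hpos : ∀ χ : IrrCharacter S, p - 1 ≤
      (charDegree (χ : S → ℂ) % p) * (p - charDegree (χ : S → ℂ) % p) := by
    intro χ
    have hr : charDegree (χ : S → ℂ) % p ≠ 0 := fun h0 =>
      hno ⟨hp, _, ⟨χ, rfl⟩, Nat.dvd_of_mod_eq_zero h0⟩
    have hlt' := Nat.mod_lt (charDegree (χ : S → ℂ)) hp.pos
    obtain ⟨a, ha⟩ : ∃ a, charDegree (χ : S → ℂ) % p = a + 1 :=
      ⟨charDegree (χ : S → ℂ) % p - 1, by omega⟩
    obtain ⟨b, hb⟩ : ∃ b, p = a + 1 + (b + 1) := ⟨p - (a + 1) - 1, by omega⟩
    rw [ha, show p - (a + 1) = b + 1 by omega, show p - 1 = a + b + 1 by omega]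
    nlinarith
  have h2 := le_trans (Finset.sum_le_sum fun χ (_ : χ ∈ Finset.univ) => hpos χ) h
  rw [Finset.sum_const, smul_eq_mul, Finset.card_univ, ← Nat.card_eq_fintype_card,
    CharTheory.card_irrCharacter, mul_comm (Nat.card (ConjClasses S))] at h2
  have := Nat.le_of_mul_le_mul_left h2 (by have := hp.two_le; omega)
  omega

/-- Representatives of eight classes of the alternating group of degree seven. -/
def sevenReps : List (Equiv.Perm (Fin 7)) :=
  [1, [0, 1, 2].formPerm, [0, 1, 2].formPerm * [3, 4, 5].formPerm, [0, 1].formPerm * [2, 3].formPerm,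
   [0, 1, 2, 3].formPerm * [4, 5].formPerm, [0, 1, 2, 3, 4].formPerm, [0, 1, 2, 3, 4, 5, 6].formPerm,
   [0, 1, 2].formPerm * [3, 4].formPerm * [5, 6].formPerm]

/-- The cycle type seen through the fixed points of powers. -/
def fixProfile (x : Equiv.Perm (Fin 7)) : List ℕ :=
  [1, 2, 3].map fun k => (Finset.univ.filter fun i => (x ^ k) i = i).card

theorem fixProfile_conj (x y : Equiv.Perm (Fin 7)) : fixProfile (y * x * y⁻¹) = fixProfile x := by
  refine List.map_congr_left fun k _ => ?_
  rw [conj_pow]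
  refine Finset.card_equiv y.symm fun i => ?_
  simp [Equiv.apply_eq_iff_eq_symm_apply]

theorem sevenReps_spec : (∀ x ∈ sevenReps, Equiv.Perm.sign x = 1) ∧
    (sevenReps.map fixProfile).Nodup ∧ sevenReps.length = 8 := by
  decide +kernel

theorem eight_le_classes_alt7 : 8 ≤ Nat.card (ConjClasses (alternatingGroup (Fin 7))) := by
  classical
  let f : ConjClasses (alternatingGroup (Fin 7)) → List ℕ := Quotient.lift
    (fun x : alternatingGroup (Fin 7) => fixProfile x) (by
      intro a b hab
      obtain ⟨c, hc⟩ := isConj_iff.1 hab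
      rw [← hc]
      exact (fixProfile_conj _ _).symm)
  have hsub : (sevenReps.map fixProfile).toFinset ⊆ Finset.univ.image f := by
    intro y hy
    rw [List.mem_toFinset, List.mem_map] at hy
    obtain ⟨x, hx, rfl⟩ := hy
    exact Finset.mem_image.2 ⟨ConjClasses.mk ⟨x, Equiv.Perm.mem_alternatingGroup.2 (sevenReps_spec.1 x hx)⟩,
      Finset.mem_univ _, rfl⟩
  have h := (Finset.card_le_card hsub).trans Finset.card_image_le
  rw [List.toFinset_card_of_nodup sevenReps_spec.2.1, List.length_map, sevenReps_spec.2.2,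
    Finset.card_univ, ← Nat.card_eq_fintype_card] at h
  exact h

theorem card_centralizer_perm_seven {x : Equiv.Perm (Fin 7)} {l : ℕ} (hl : x.cycleType = {l}) :
    Nat.card (Subgroup.centralizer ({x} : Set (Equiv.Perm (Fin 7)))) = (7 - l).factorial * l := by
  rw [Equiv.Perm.nat_card_centralizer, hl]
  simp

theorem vertices_2520 (h : Nat.card S = 2520) : 5 ∈ degreePrimes S ∧ 7 ∈ degreePrimes S := by
  classical
  obtain ⟨e⟩ := Cfsg.Agent.S0984.result h
  have hdeg : degreePrimes S = degreePrimes (alternatingGroup (Fin 7)) := by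
    unfold degreePrimes
    rw [Correspondences.charDegrees_mulEquiv e]
  rw [hdeg]
  have key : ∀ (x : alternatingGroup (Fin 7)) (p : ℕ) (_ : p.Prime),
      (x : Equiv.Perm (Fin 7)).cycleType = {p} → orderOf x = p ∧
        Nat.card (Subgroup.centralizer ({x} : Set (alternatingGroup (Fin 7)))) ∣ (7 - p).factorial * p := by
    intro x p hp hx
    refine ⟨by rw [← Subgroup.orderOf_coe, ← Equiv.Perm.lcm_cycleType, hx, Multiset.lcm_singleton, normalize_eq], ?_⟩
    rw [← card_centralizer_perm_seven hx]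
    refine Subgroup.card_dvd_of_injective
      ((alternatingGroup (Fin 7)).subtype.comp (Subgroup.centralizer ({x} : Set _)).subtype |>.codRestrict _
        fun y => Subgroup.mem_centralizer_singleton_iff.2
          (congrArg Subtype.val (Subgroup.mem_centralizer_singleton_iff.1 y.2))) ?_
    intro a b hab
    have h' := congrArg Subtype.val hab
    exact Subtype.ext (Subtype.ext h')
  have h8 := eight_le_classes_alt7
  constructor
  · let x : alternatingGroup (Fin 7) :=
      ⟨([0, 1, 2, 3, 4] : List (Fin 7)).formPerm, Equiv.Perm.mem_alternatingGroup.2 (by decide +kernel)⟩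
    have hx : (x : Equiv.Perm (Fin 7)).cycleType = {5} := by
      rw [show (x : Equiv.Perm (Fin 7)) = ([0, 1, 2, 3, 4] : List (Fin 7)).formPerm from rfl,
        (List.isCycle_formPerm (by decide) (by decide)).cycleType,
        List.support_formPerm_of_nodup _ (by decide) (by simp)]
      rfl
    obtain ⟨ho, hd⟩ := key x 5 Nat.prime_five hx
    refine mem_degreePrimes_of_centralizer Nat.prime_five ho (lt_of_lt_of_le ?_ h8)
    -- an odd permutation commutes with x, so the centraliser is smaller
    have hne : Nat.card (Subgroup.centralizer ({x} : Set (alternatingGroup (Fin 7)))) ≠ 10 := by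
      intro h10
      have hsq := Subgroup.card_dvd_of_le
        (show (Subgroup.centralizer ({x} : Set (alternatingGroup (Fin 7)))).map (alternatingGroup (Fin 7)).subtype ≤
          Subgroup.centralizer ({(x : Equiv.Perm (Fin 7))} : Set _) from by
          rintro _ ⟨y, hy, rfl⟩
          exact Subgroup.mem_centralizer_singleton_iff.2
            (congrArg Subtype.val (Subgroup.mem_centralizer_singleton_iff.1 hy)))
      have hC : Nat.card (Subgroup.centralizer ({(x : Equiv.Perm (Fin 7))} : Set _)) = 10 := by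
        rw [card_centralizer_perm_seven hx]; rfl
      have hmem : Equiv.swap (5 : Fin 7) 6 ∈
          Subgroup.centralizer ({(x : Equiv.Perm (Fin 7))} : Set _) :=
        Subgroup.mem_centralizer_singleton_iff.2 (by decide +kernel)
      have heq := Subgroup.eq_of_le_of_card_ge
        (show (Subgroup.centralizer ({x} : Set (alternatingGroup (Fin 7)))).map (alternatingGroup (Fin 7)).subtype ≤
          Subgroup.centralizer ({(x : Equiv.Perm (Fin 7))} : Set _) from by
          rintro _ ⟨y, hy, rfl⟩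
          exact Subgroup.mem_centralizer_singleton_iff.2
            (congrArg Subtype.val (Subgroup.mem_centralizer_singleton_iff.1 hy)))
        (by rw [Subgroup.card_map_of_injective (alternatingGroup (Fin 7)).subtype_injective, h10, hC])
      rw [← heq] at hmem
      obtain ⟨y, -, hy⟩ := hmem
      have h' := Equiv.Perm.mem_alternatingGroup.1 y.2
      rw [show (y : Equiv.Perm (Fin 7)) = Equiv.swap 5 6 from hy, Equiv.Perm.sign_swap (by decide)] at h'
      exact absurd h' (by decide)
    have hle := Nat.le_of_dvd (by norm_num) hd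
    have : Nat.card (Subgroup.centralizer ({x} : Set (alternatingGroup (Fin 7)))) ∈ Nat.divisors 10 :=
      Nat.mem_divisors.2 ⟨hd, by norm_num⟩
    have := (by decide : ∀ d ∈ Nat.divisors 10, d ≠ 10 → d < 8) _ this hne
    omega
  · let x : alternatingGroup (Fin 7) :=
      ⟨([0, 1, 2, 3, 4, 5, 6] : List (Fin 7)).formPerm, Equiv.Perm.mem_alternatingGroup.2 (by decide +kernel)⟩
    have hx : (x : Equiv.Perm (Fin 7)).cycleType = {7} := by
      rw [show (x : Equiv.Perm (Fin 7)) = ([0, 1, 2, 3, 4, 5, 6] : List (Fin 7)).formPerm from rfl,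
        (List.isCycle_formPerm (by decide) (by decide)).cycleType,
        List.support_formPerm_of_nodup _ (by decide) (by simp)]
      rfl
    obtain ⟨ho, hd⟩ := key x 7 (by norm_num) hx
    refine mem_degreePrimes_of_centralizer (by norm_num) ho (lt_of_lt_of_le ?_ h8)
    exact lt_of_le_of_lt (Nat.le_of_dvd (by norm_num) hd) (by decide)

end CfsgLib.DegreeGraphSmall
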